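import Cfsg.Agent.Lib.SuzukiKernel.Nondeg
import Cfsg.Agent.Lib.Zassenhaus.CoherentChars
import Cfsg.Agent.Lib.Induced.Integral

/-!
# The characters of the point stabiliser, `|U| = q ^ 3`
-/

set_option autoImplicit false
set_option linter.unusedSectionVars false

namespace Cfsg.Agent.Lib.SuzukiKernel

open MulAction
open Cfsg.Agent.Lib.Zassenhaus
open Cfsg.Agent.Lib.Characters.Basic
open scoped ComplexConjugate Classical commutatorElement

universe u v

/-- An irreducible character of a group all of whose commutators act trivially is linear. -/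
theorem degree_one_of_comm_trivial {H : Type u} [Group H] [Fintype H] (ψ : Cfsg.IrrCharacter H)
    (h : ∀ x y : H, (ψ : H → ℂ) ⁅x, y⁆ = (ψ : H → ℂ) 1) : (ψ : H → ℂ) 1 = 1 := by
  obtain ⟨n, ρ, hρ, hρψ⟩ := exists_rep ψ
  haveI := hρ
  have hker : ∀ x y : H, ρ ⁅x, y⁆ = 1 := fun x y => by
    refine Induced.Integral.eq_id_of_character_eq ρ ?_
    rw [hρψ, h, ← hρψ, Representation.char_one]
  have hc : ∀ g a : H, ρ g * ρ a = ρ a * ρ g := by
    intro g a
    have e : g * a = ⁅g, a⁆ * (a * g) := by simp only [commutatorElement_def]; group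
    rw [← map_mul, ← map_mul, e, map_mul ρ ⁅g, a⁆, hker, one_mul]
  have hscal : ∀ g : H, ∃ c : ℂ, ρ g = c • (1 : Module.End ℂ (Fin n → ℂ)) := by
    intro g
    let f : Representation.IntertwiningMap ρ ρ := ⟨ρ g, fun a => hc g a⟩
    obtain ⟨c, hcf⟩ :=
      (Representation.IsIrreducible.algebraMap_intertwiningMap_bijective_of_isAlgClosed (ρ := ρ)).2 f
    refine ⟨c, ?_⟩
    have := congrArg Representation.IntertwiningMap.toLinearMap hcf
    simp only [Representation.IntertwiningMap.algebraMap_apply,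
      Representation.IntertwiningMap.toLinearMap_smul] at this
    exact this.symm
  choose c hcg using hscal
  have hd : (ψ : H → ℂ) 1 = (n : ℂ) := by
    rw [← hρψ, Representation.char_one, Module.finrank_pi, Fintype.card_fin]
  have hn : 0 < n := by
    by_contra hn
    refine apply_one_ne_zero ψ ?_
    rw [hd, Nat.eq_zero_of_not_pos hn, Nat.cast_zero]
  have hval : ∀ g, (ψ : H → ℂ) g = c g * n := fun g => by
    rw [← hρψ, Representation.character, hcg, map_smul, LinearMap.trace_one, Module.finrank_pi,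
      Fintype.card_fin, smul_eq_mul]
  have hcn : ∀ g, c g * c g⁻¹ = 1 := fun g => by
    have e : ρ g * ρ g⁻¹ = 1 := by rw [← map_mul, mul_inv_cancel, map_one]
    rw [hcg, hcg g⁻¹, smul_mul_smul_comm, mul_one] at e
    have e' := congrArg (LinearMap.trace ℂ (Fin n → ℂ)) e
    rw [map_smul, LinearMap.trace_one, Module.finrank_pi, Fintype.card_fin, smul_eq_mul] at e'
    exact mul_right_cancel₀ (Nat.cast_ne_zero.2 hn.ne' : (n : ℂ) ≠ 0) (by rw [e', one_mul])
  have hs := classInner_self_irr ψ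
  rw [Cfsg.classInner, Finset.sum_congr rfl (g := fun _ => (n : ℂ) * n) fun g _ => by
      rw [← apply_inv (isCharacter_irr ψ), hval, hval,
        show c g * (n : ℂ) * (c g⁻¹ * n) = c g * c g⁻¹ * ((n : ℂ) * n) by ring, hcn, one_mul],
    Finset.sum_const, Finset.card_univ, nsmul_eq_mul, ← Nat.card_eq_fintype_card, ← mul_assoc,
    inv_mul_cancel₀ Induced.Basic.natCard_ne_zero, one_mul] at hs
  rw [hd]
  have : n * n = 1 := by exact_mod_cast hs
  rw [(mul_eq_one.1 this).1, Nat.cast_one]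

variable {G : Type u} {Ω : Type v} [Group G] [Fintype G] [MulAction G Ω] [Finite Ω] {a b : Ω}
  {U : Subgroup G} {q : ℕ}

open AbelianChars (nrm)

/-- The kernel inside its normaliser. -/
abbrev kN (U : Subgroup G) : Subgroup (nrm U) := U.subgroupOf (nrm U)

/-- The centre inside the normaliser of the kernel. -/
abbrev zN (U : Subgroup G) : Subgroup (nrm U) := (zSub U).subgroupOf (nrm U)

/-- The linear layer. -/
abbrev Low (U : Subgroup G) : Type u :=
  {r : Cfsg.IrrCharacter (nrm U) //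
    Clifford.KernelChars.Rel (kN U) (r : nrm U → ℂ) ∧
      ¬ Clifford.KernelChars.Rel (zN U) (r : nrm U → ℂ)}

namespace Suz

variable (h : Suz a b U q)
include h

theorem zN_normal : (zN U).Normal where
  conj_mem := fun z hz g => by
    obtain ⟨hzU, hz2⟩ := h.mem_zSub.1 hz
    refine h.mem_zSub.2 ⟨(Subgroup.mem_normalizer_iff.1 g.2 _).1 hzU, ?_⟩
    show (g : G) * z * (g : G)⁻¹ * ((g : G) * z * (g : G)⁻¹) = 1
    calc (g : G) * z * (g : G)⁻¹ * ((g : G) * z * (g : G)⁻¹) = g * ((z : G) * z) * (g : G)⁻¹ := by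
          group
      _ = 1 := by rw [show (z : G) * z = 1 from hz2, mul_one, mul_inv_cancel]

theorem self_cen : ∀ k ∈ kN U, k ≠ 1 → ∀ x, Commute x k → x ∈ kN U :=
  Clifford.TICoherent.self_centralizing U (RegKernel.centralizer_le h.hZG h.hab h.hU)

theorem mem_nrm {g : G} (hg : g ∈ U) : g ∈ nrm U := Subgroup.le_normalizer hg

theorem index_kN : ((kN U).index : ℂ) = (q : ℂ) - 1 := by
  have e : (kN U).index + 1 = q := by
    rw [← h.hd]; exact congrArg (· + 1) (RegKernel.index_eq h.hZG h.hab h.hU)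
  rw [← e]; push_cast; ring

theorem card_nrm (hcard : Nat.card U = q ^ 3) :
    (Nat.card (nrm U) : ℂ) = (q : ℂ) ^ 3 * ((q : ℂ) - 1) := by
  rw [← (kN U).card_mul_index, Nat.cast_mul, h.index_kN,
    Nat.card_congr (Subgroup.subgroupOfEquivOfLe (H := U) (K := nrm U) Subgroup.le_normalizer).toEquiv,
    hcard, Nat.cast_pow]

theorem q_ne : (q : ℂ) ≠ 0 ∧ (q : ℂ) - 1 ≠ 0 := by
  have := h.four_le
  refine ⟨Nat.cast_ne_zero.2 (by omega), sub_ne_zero.2 ?_⟩
  norm_cast; omega

theorem rel_zN {ψ : nrm U → ℂ} (hψ : Clifford.KernelChars.Rel (zN U) ψ) :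
    Clifford.KernelChars.Rel (kN U) ψ :=
  let ⟨k, hk, hne⟩ := hψ; ⟨k, h.zSub_le hk, hne⟩

theorem cent_u (hcard : Nat.card U = q ^ 3) {u : nrm U} (hu : (u : G) ∈ U)
    (hu' : (u : G) ∉ zSub U) :
    Nat.card (Subgroup.centralizer ({u} : Set (nrm U))) = q ^ 2 := by
  rw [CoherentChars.card_centralizer_nrm U (RegKernel.centralizer_le h.hZG h.hab h.hU) hu
    (fun e => hu' (by rw [e]; exact one_mem _)), h.card_centralizer hcard hu hu']

theorem cent_z (hcard : Nat.card U = q ^ 3) {z : nrm U} (hz : (z : G) ∈ zSub U) (hz1 : z ≠ 1) :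
    Nat.card (Subgroup.centralizer ({z} : Set (nrm U))) = q ^ 3 := by
  rw [CoherentChars.card_centralizer_nrm U (RegKernel.centralizer_le h.hZG h.hab h.hU)
    (h.zSub_le hz) hz1, h.centralizer_invol hz (fun e => hz1 (Subtype.ext e)), hcard]

/-- A class function is constant on the cosets of the centre outside the centre. -/
theorem coset_const (hcard : Nat.card U = q ^ 3) {f : nrm U → ℂ}
    (hf : Cfsg.IsClassFunction (nrm U) f) {u : nrm U} (hu : (u : G) ∈ U) (hu' : (u : G) ∉ zSub U)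
    (z : zN U) : f ((z : nrm U) * u) = f u := by
  obtain ⟨v, hv, e⟩ := h.exists_conj_coset hcard hu hu' z.2
  rw [show (z : nrm U) * u = ⟨v, h.mem_nrm hv⟩ * u * (⟨v, h.mem_nrm hv⟩ : nrm U)⁻¹ from
    Subtype.ext e.symm]
  exact hf u _

theorem card_zN : Nat.card (zN U) = q := by
  rw [Nat.card_congr (Subgroup.subgroupOfEquivOfLe (H := zSub U) (K := nrm U)
    (h.zSub_le.trans Subgroup.le_normalizer)).toEquiv, h.card_zSub]

/-- A character nontrivial on the centre vanishes on the rest of the kernel. -/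
theorem vanish_high (hcard : Nat.card U = q ^ 3) (ψ : Cfsg.IrrCharacter (nrm U))
    (hψ : Clifford.KernelChars.Rel (zN U) (ψ : nrm U → ℂ)) {u : nrm U} (hu : (u : G) ∈ U)
    (hu' : (u : G) ∉ zSub U) : (ψ : nrm U → ℂ) u = 0 := by
  haveI := h.zN_normal
  have h0 := BlocksChars5.Vanishing.sum_coset_eq_zero ψ (zN U) hψ u
  rw [Finset.sum_congr rfl fun z _ => h.coset_const hcard (isClassFunction_irr ψ) hu hu' z,
    Finset.sum_const, Finset.card_univ, ← Nat.card_eq_fintype_card, h.card_zN, nsmul_eq_mul] at h0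
  exact (mul_eq_zero.1 h0).resolve_left h.q_ne.1

/-- A class function is constant on the involutions of the kernel. -/
theorem invol_const {f : nrm U → ℂ} (hf : Cfsg.IsClassFunction (nrm U) f) {z w : nrm U}
    (hz : (z : G) ∈ zSub U) (hz1 : z ≠ 1) (hw : (w : G) ∈ zSub U) (hw1 : w ≠ 1) : f z = f w := by
  obtain ⟨δ, hδ, e⟩ := h.conj_invol hz (fun e => hz1 (Subtype.ext e)) hw
    (fun e => hw1 (Subtype.ext e))
  have hδN : δ ∈ nrm U := by
    show δ ∈ Subgroup.normalizer (U : Set G)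
    rw [RegKernel.normalizer_eq h.hZG h.hab h.hU]; exact hδ.1
  rw [show w = ⟨δ, hδN⟩ * z * (⟨δ, hδN⟩ : nrm U)⁻¹ from Subtype.ext e.symm]
  exact (hf z _).symm

/-- The value at an involution of a character nontrivial on the centre. -/
theorem high_invol (ψ : Cfsg.IrrCharacter (nrm U))
    (hψ : Clifford.KernelChars.Rel (zN U) (ψ : nrm U → ℂ)) {z : nrm U} (hz : (z : G) ∈ zSub U)
    (hz1 : z ≠ 1) : (ψ : nrm U → ℂ) 1 + ((q : ℂ) - 1) * (ψ : nrm U → ℂ) z = 0 := by
  haveI := h.zN_normal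
  have h0 := Clifford.KernelChars.sum_kernel (zN U) ψ hψ
  rw [← Finset.add_sum_erase _ _ (Finset.mem_univ (1 : zN U)),
    Finset.sum_congr rfl (g := fun _ => (ψ : nrm U → ℂ) z) fun w hw =>
      h.invol_const (isClassFunction_irr ψ) w.2
        (fun e => Finset.ne_of_mem_erase hw (Subtype.ext e)) hz hz1,
    Finset.sum_const, Finset.card_erase_of_mem (Finset.mem_univ _), Finset.card_univ,
    ← Nat.card_eq_fintype_card, h.card_zN, nsmul_eq_mul,
    Nat.cast_sub (by have := h.four_le; omega), Nat.cast_one] at h0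
  exact h0

theorem sum_nrm_split {M : Type*} [AddCommMonoid M] (F : nrm U → M) (hF : ∀ x, x ∉ kN U → F x = 0) :
    ∑ x, F x = ∑ x ∈ Finset.univ.filter (fun x : nrm U => (x : G) ∈ zSub U), F x +
      ∑ x ∈ Finset.univ.filter (fun x : nrm U => (x : G) ∈ U ∧ (x : G) ∉ zSub U), F x := by
  rw [← Finset.sum_filter_add_sum_filter_not Finset.univ (fun x : nrm U => (x : G) ∈ zSub U)]
  congr 1
  refine (Finset.sum_subset (fun x hx => ?_) fun x hx hx' => hF x fun hxU => ?_).symm
  · exact Finset.mem_filter.2 ⟨Finset.mem_univ _, (Finset.mem_filter.1 hx).2.2⟩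
  · exact hx' (Finset.mem_filter.2 ⟨Finset.mem_univ _, hxU, (Finset.mem_filter.1 hx).2⟩)

theorem card_filter_z :
    ((Finset.univ.filter fun x : nrm U => (x : G) ∈ zSub U).card : ℂ) = q := by
  rw [← Fintype.card_subtype, ← Nat.card_eq_fintype_card]
  exact congrArg Nat.cast h.card_zN

theorem card_filter_u (hcard : Nat.card U = q ^ 3) :
    ((Finset.univ.filter fun x : nrm U => (x : G) ∈ U ∧ (x : G) ∉ zSub U).card : ℂ) =
      (q : ℂ) ^ 3 - q := by
  have e1 : (Finset.univ.filter fun x : nrm U => (x : G) ∈ U).card = q ^ 3 := by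
    rw [← Fintype.card_subtype, ← Nat.card_eq_fintype_card,
      ← hcard]
    exact Nat.card_congr
      (Subgroup.subgroupOfEquivOfLe (H := U) (K := nrm U) Subgroup.le_normalizer).toEquiv
  have e2 := Finset.card_filter_add_card_filter_not (s := Finset.univ.filter fun x : nrm U => (x : G) ∈ U)
    (fun x : nrm U => (x : G) ∈ zSub U)
  rw [Finset.filter_filter, Finset.filter_filter, e1] at e2
  have e3 : (Finset.univ.filter fun x : nrm U => (x : G) ∈ U ∧ (x : G) ∈ zSub U) =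
      Finset.univ.filter fun x : nrm U => (x : G) ∈ zSub U :=
    Finset.filter_congr fun x _ => ⟨And.right, fun hx => ⟨h.zSub_le hx, hx⟩⟩
  rw [e3] at e2
  have e4 := congrArg (Nat.cast : ℕ → ℂ) e2
  rw [Nat.cast_add, Nat.cast_pow, h.card_filter_z] at e4
  linear_combination e4

/-- The degree of a character nontrivial on the centre. -/
theorem high_degree (hcard : Nat.card U = q ^ 3) (ψ : Cfsg.IrrCharacter (nrm U))
    (hψ : Clifford.KernelChars.Rel (zN U) (ψ : nrm U → ℂ)) :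
    (ψ : nrm U → ℂ) 1 = q * ((q : ℂ) - 1) := by
  obtain ⟨hq0, hq1⟩ := h.q_ne
  have hs := classInner_self_irr ψ
  rw [Cfsg.classInner, h.sum_nrm_split _ (fun x hx => by
      rw [Clifford.KernelChars.vanish (kN U) h.self_cen ψ (h.rel_zN hψ) hx, zero_mul]),
    Finset.sum_eq_zero (s := Finset.univ.filter fun x : nrm U => (x : G) ∈ U ∧ (x : G) ∉ zSub U)
      (fun x hx => by
        rw [h.vanish_high hcard ψ hψ (Finset.mem_filter.1 hx).2.1 (Finset.mem_filter.1 hx).2.2,
          zero_mul]), add_zero,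
    ← Finset.add_sum_erase _ _ (Finset.mem_filter.2 ⟨Finset.mem_univ (1 : nrm U), one_mem (zSub U)⟩)]
    at hs
  obtain ⟨n, -, hn⟩ := exists_degree_pos ψ
  have hval : ∀ x ∈ (Finset.univ.filter fun x : nrm U => (x : G) ∈ zSub U).erase 1,
      (ψ : nrm U → ℂ) x * conj ((ψ : nrm U → ℂ) x) = ((n : ℂ) / ((q : ℂ) - 1)) ^ 2 := by
    intro x hx
    have e := h.high_invol ψ hψ (Finset.mem_filter.1 (Finset.mem_of_mem_erase hx)).2
      (Finset.ne_of_mem_erase hx)
    rw [hn] at e
    have e' : (ψ : nrm U → ℂ) x = -((n : ℂ) / ((q : ℂ) - 1)) := by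
      field_simp; linear_combination e
    rw [e', map_neg, map_div₀, map_sub, map_natCast, map_natCast, map_one]
    ring
  have hc1 : ((((Finset.univ.filter fun x : nrm U => (x : G) ∈ zSub U).erase 1).card : ℕ) : ℂ) =
      (q : ℂ) - 1 := by
    have e := Finset.card_erase_add_one
      (s := Finset.univ.filter fun x : nrm U => (x : G) ∈ zSub U) (a := (1 : nrm U))
      (Finset.mem_filter.2 ⟨Finset.mem_univ _, one_mem _⟩)
    rw [← h.card_filter_z, ← e]; push_cast; ring
  rw [Finset.sum_congr rfl hval, Finset.sum_const, nsmul_eq_mul, hc1, conj_apply_one (isCharacter_irr ψ), hn, h.card_nrm hcard] at hs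
  rw [hn]
  have h2 : ((n : ℂ)) ^ 2 = ((q : ℂ) * ((q : ℂ) - 1)) ^ 2 := by
    field_simp at hs
    refine mul_left_cancel₀ hq0 ?_
    linear_combination hs
  have h3 : n ^ 2 = (q * (q - 1)) ^ 2 := by
    have h4 : ((n ^ 2 : ℕ) : ℂ) = (((q * (q - 1)) ^ 2 : ℕ) : ℂ) := by
      push_cast [Nat.cast_sub (show 1 ≤ q by have := h.four_le; omega)]
      exact h2
    exact_mod_cast h4
  rw [Nat.pow_left_injective two_ne_zero h3, Nat.cast_mul,
    Nat.cast_sub (show 1 ≤ q by have := h.four_le; omega), Nat.cast_one]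

theorem low_apply_z (r : Low U) {z : nrm U} (hz : (z : G) ∈ zSub U) :
    (r.1 : nrm U → ℂ) z = (r.1 : nrm U → ℂ) 1 := by
  by_contra hne
  exact r.2.2 ⟨z, hz, hne⟩

theorem low_degree_le (hcard : Nat.card U = q ^ 3) (r : Low U) :
    ∃ n : ℕ, (r.1 : nrm U → ℂ) 1 = n ∧ n + 1 ≤ q := by
  obtain ⟨hq0, hq1⟩ := h.q_ne
  obtain ⟨n, -, hn⟩ := exists_degree_pos r.1
  refine ⟨n, hn, ?_⟩
  let φ : U →* nrm U := Subgroup.inclusion Subgroup.le_normalizer
  set D : U → ℂ := fun x => (r.1 : nrm U → ℂ) (φ x) with hD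
  have hDc : Cfsg.IsCharacter U D := isCharacter_comp φ (isCharacter_irr r.1)
  have hnorm : Cfsg.classInner D D = (q : ℂ) - 1 := by
    have hs := classInner_self_irr r.1
    have hN := h.card_nrm hcard
    rw [Cfsg.classInner, inv_mul_eq_one₀ Induced.Basic.natCard_ne_zero, hN] at hs
    rw [Cfsg.classInner, hcard, Nat.cast_pow, inv_mul_eq_iff_eq_mul₀ (pow_ne_zero 3 hq0), hs]
    refine Finset.sum_of_injOn (fun x : U => φ x)
      (Subgroup.inclusion_injective _).injOn (fun _ _ => Finset.mem_univ _) (fun x _ hx => ?_)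
      fun x _ => rfl
    rw [Clifford.KernelChars.vanish (kN U) h.self_cen r.1 r.2.1
      (fun hxU => hx ⟨⟨x, hxU⟩, Finset.mem_univ _, Subtype.ext rfl⟩), zero_mul]
  -- the constituents are linear
  have := Fintype.ofFinite (Cfsg.IrrCharacter U)
  choose m hm using fun ψ : Cfsg.IrrCharacter U => exists_classInner_nat hDc (isCharacter_irr ψ)
  have hlin : ∀ ψ : Cfsg.IrrCharacter U, m ψ ≠ 0 → (ψ : U → ℂ) 1 = 1 := by
    intro ψ hψ0
    refine degree_one_of_comm_trivial ψ fun x y => ?_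
    by_contra hne
    refine hψ0 ((Nat.cast_eq_zero (R := ℂ)).1 ?_)
    rw [← hm ψ, Cfsg.classInner]
    let Zu : Subgroup U := (zSub U).subgroupOf U
    haveI : Zu.Normal := ⟨fun z hz g => by
      show (g : G) * z * (g : G)⁻¹ ∈ zSub U
      rw [h.z_comm (z := (z : G)) hz g.2, mul_inv_cancel_right]; exact hz⟩
    have hψZ : ∃ z ∈ Zu, (ψ : U → ℂ) z ≠ (ψ : U → ℂ) 1 := ⟨⁅x, y⁆, h.comm_mem x.2 y.2, hne⟩
    have h0 : ∀ w : U, (w : G) ∉ zSub U → (ψ : U → ℂ) w = 0 := by
      intro w hw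
      have h1 := BlocksChars5.Vanishing.sum_coset_eq_zero ψ Zu hψZ w
      rw [Finset.sum_congr rfl (g := fun _ => (ψ : U → ℂ) w) fun z _ => by
          obtain ⟨v, hv, e⟩ := h.exists_conj_coset hcard w.2 hw z.2
          rw [show (z : U) * w = ⟨v, hv⟩ * w * (⟨v, hv⟩ : U)⁻¹ from Subtype.ext e.symm]
          exact isClassFunction_irr ψ w _,
        Finset.sum_const, Finset.card_univ, nsmul_eq_mul, mul_eq_zero] at h1
      exact h1.resolve_left (Nat.cast_ne_zero.2 Fintype.card_ne_zero)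
    rw [← Finset.sum_subset (Finset.subset_univ (Finset.univ.filter fun w : U => (w : G) ∈ zSub U))
      (fun w _ hw => by rw [h0 w fun hh => hw (Finset.mem_filter.2 ⟨Finset.mem_univ _, hh⟩),
        map_zero, mul_zero]),
      Finset.sum_congr rfl (g := fun w => (n : ℂ) * conj ((ψ : U → ℂ) w)) fun w hw => by
        simp only [hD]; rw [h.low_apply_z r (z := φ w) (Finset.mem_filter.1 hw).2, hn],
      ← Finset.mul_sum, ← map_sum]
    have h1 : ∑ z : Zu, (ψ : U → ℂ) z = 0 := Clifford.KernelChars.sum_kernel Zu ψ hψZ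
    rw [Finset.sum_subtype (Finset.univ.filter fun w : U => (w : G) ∈ zSub U) (p := fun w => w ∈ Zu)
      (fun w => by simp [Zu, Subgroup.mem_subgroupOf]) (fun w => (ψ : U → ℂ) w), h1, map_zero,
      mul_zero, mul_zero]
  have hdec := Characters.Complete.classFunction_eq_sum (isClassFunction_of_isCharacter hDc)
  have h1 : ((n : ℕ) : ℂ) = ((∑ ψ : Cfsg.IrrCharacter U, m ψ : ℕ) : ℂ) := by
    have e := congrFun hdec 1
    simp only [Finset.sum_apply, Pi.smul_apply, smul_eq_mul, hm] at e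
    rw [Nat.cast_sum, show ((n : ℕ) : ℂ) = D 1 by simp only [hD, map_one]; exact hn.symm, e]
    refine Finset.sum_congr rfl fun ψ _ => ?_
    by_cases h0 : m ψ = 0
    · simp [h0]
    · rw [hlin ψ h0, mul_one]
  have h2 : ((∑ ψ : Cfsg.IrrCharacter U, m ψ * m ψ : ℕ) : ℂ) = (q : ℂ) - 1 := by
    rw [← hnorm]
    conv_rhs => arg 1; rw [hdec]
    rw [Characters.Basic.classInner_sum_left, Nat.cast_sum]
    refine Finset.sum_congr rfl fun ψ _ => ?_
    rw [Induced.Basic.classInner_smul_left, hm, ← Induced.Basic.classInner_conj_symm D (ψ : U → ℂ),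
      hm, map_natCast, Nat.cast_mul]
  have h3 : (∑ ψ : Cfsg.IrrCharacter U, m ψ * m ψ) + 1 = q := by
    have : (((∑ ψ : Cfsg.IrrCharacter U, m ψ * m ψ) + 1 : ℕ) : ℂ) = (q : ℂ) := by
      rw [Nat.cast_add, h2, Nat.cast_one]; ring
    exact_mod_cast this
  rw [Nat.cast_inj.1 h1]
  have : ∑ ψ : Cfsg.IrrCharacter U, m ψ ≤ ∑ ψ : Cfsg.IrrCharacter U, m ψ * m ψ :=
    Finset.sum_le_sum fun ψ _ => Nat.le_mul_self _
  omega

theorem exists_u (hcard : Nat.card U = q ^ 3) : ∃ u : nrm U, (u : G) ∈ U ∧ (u : G) ∉ zSub U := by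
  have e := h.card_filter_u hcard
  by_contra hne
  rw [Finset.card_eq_zero.2 (Finset.filter_eq_empty_iff.2 fun {x} _ hx => hne ⟨x, hx⟩)] at e
  have h4 := h.four_le
  have : ((q ^ 3 : ℕ) : ℂ) = ((q : ℕ) : ℂ) := by push_cast; rw [Nat.cast_zero] at e; linear_combination -e
  have h5 : q ^ 3 = q := by exact_mod_cast this
  nlinarith [Nat.mul_le_mul h4 h4, show q * q * q = q ^ 3 by ring]

theorem exists_z : ∃ z : nrm U, (z : G) ∈ zSub U ∧ z ≠ 1 := by
  have : Nontrivial (zN U) := Finite.one_lt_card_iff_nontrivial.1 (by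
    rw [h.card_zN]; have := h.four_le; omega)
  obtain ⟨z, hz⟩ := exists_ne (1 : zN U)
  exact ⟨z, z.2, fun e => hz (Subtype.ext e)⟩

/-- The linear layer: `q + 1` characters of degree `q - 1`; one character above it. -/
theorem low_facts (hcard : Nat.card U = q ^ 3) :
    (∀ r : Low U, (r.1 : nrm U → ℂ) 1 = (q : ℂ) - 1) ∧ Nat.card (Low U) = q + 1 ∧
      (∀ u : nrm U, (u : G) ∈ U → (u : G) ∉ zSub U →
        (∑ᶠ r : Low U, (r.1 : nrm U → ℂ) u = -1) ∧
          ∑ᶠ r : Low U, (r.1 : nrm U → ℂ) u * conj ((r.1 : nrm U → ℂ) u) =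
            (q : ℂ) ^ 2 - ((q : ℂ) - 1)) ∧
      ∃ θ : Cfsg.IrrCharacter (nrm U), ∀ ψ : Cfsg.IrrCharacter (nrm U),
        Clifford.KernelChars.Rel (zN U) (ψ : nrm U → ℂ) ↔ ψ = θ := by
  obtain ⟨hq0, hq1⟩ := h.q_ne
  have := Fintype.ofFinite (Cfsg.IrrCharacter (nrm U))
  set S := Finset.univ.filter fun χ : Cfsg.IrrCharacter (nrm U) =>
    Clifford.KernelChars.Rel (kN U) (χ : nrm U → ℂ) with hSdef
  set A := Finset.univ.filter fun χ : Cfsg.IrrCharacter (nrm U) =>
    Clifford.KernelChars.Rel (kN U) (χ : nrm U → ℂ) ∧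
      ¬ Clifford.KernelChars.Rel (zN U) (χ : nrm U → ℂ) with hAdef
  set W := Finset.univ.filter fun χ : Cfsg.IrrCharacter (nrm U) =>
    Clifford.KernelChars.Rel (zN U) (χ : nrm U → ℂ) with hWdef
  have split : ∀ F : Cfsg.IrrCharacter (nrm U) → ℂ,
      ∑ χ ∈ S, F χ = ∑ χ ∈ A, F χ + ∑ χ ∈ W, F χ := by
    intro F
    rw [← Finset.sum_filter_add_sum_filter_not S
      (fun χ : Cfsg.IrrCharacter (nrm U) => ¬ Clifford.KernelChars.Rel (zN U) (χ : nrm U → ℂ))]
    congr 1
    · refine Finset.sum_congr ?_ fun _ _ => rfl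
      rw [hSdef, hAdef, Finset.filter_filter]
    · refine Finset.sum_congr ?_ fun _ _ => rfl
      ext χ
      simp only [hSdef, hWdef, Finset.mem_filter, Finset.mem_univ, true_and, not_not]
      exact ⟨And.right, fun hχ => ⟨h.rel_zN hχ, hχ⟩⟩
  have hcol : ∀ x : nrm U, x ∈ kN U → x ≠ 1 →
      ∑ χ ∈ S, (χ : nrm U → ℂ) 1 * (χ : nrm U → ℂ) x = -((q : ℂ) - 1) := by
    intro x hx hx1
    have e := Characters.Complete.sum_degree_mul_apply x
    rw [if_neg hx1, ← Finset.sum_filter_add_sum_filter_not Finset.univ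
      (fun χ : Cfsg.IrrCharacter (nrm U) => Clifford.KernelChars.Rel (kN U) (χ : nrm U → ℂ)),
      Clifford.KernelChars.sum_not_rel (kN U) hx, h.index_kN] at e
    linear_combination e
  obtain ⟨z, hz, hz1⟩ := h.exists_z
  have hWz : ∀ χ ∈ W, (χ : nrm U → ℂ) 1 * (χ : nrm U → ℂ) z = -((q : ℂ) ^ 2 * ((q : ℂ) - 1)) := by
    intro χ hχ
    have hW := (Finset.mem_filter.1 hχ).2
    have e := h.high_invol χ hW hz hz1
    rw [h.high_degree hcard χ hW] at e ⊢
    linear_combination ((q : ℂ)) * e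
  have e1 := (split fun χ => (χ : nrm U → ℂ) 1 * (χ : nrm U → ℂ) z).symm.trans
    (hcol z (h.zSub_le hz) hz1)
  rw [Finset.sum_congr rfl (s₁ := A) (g := fun χ => (χ : nrm U → ℂ) 1 ^ 2) (fun χ hχ => by
      rw [h.low_apply_z ⟨χ, (Finset.mem_filter.1 hχ).2⟩ hz, pow_two]),
    Finset.sum_congr rfl hWz, Finset.sum_const, nsmul_eq_mul] at e1
  have e2 := (split fun χ => (χ : nrm U → ℂ) 1 ^ 2).symm.trans
    (Clifford.KernelChars.sum_rel_sq (kN U))
  rw [Finset.sum_congr rfl (s₁ := W) (g := fun _ => ((q : ℂ) * ((q : ℂ) - 1)) ^ 2)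
      (fun χ hχ => by rw [h.high_degree hcard χ (Finset.mem_filter.1 hχ).2]),
    Finset.sum_const, nsmul_eq_mul,
    Nat.card_congr (Subgroup.subgroupOfEquivOfLe (H := U) (K := nrm U) Subgroup.le_normalizer).toEquiv,
    hcard, Nat.cast_pow, h.index_kN] at e2
  have hWc : (W.card : ℂ) = 1 := by
    refine mul_left_cancel₀ (mul_ne_zero (pow_ne_zero 3 hq0) hq1) ?_
    linear_combination e2 - e1
  have hsq : ∑ χ ∈ A, (χ : nrm U → ℂ) 1 ^ 2 = ((q : ℂ) + 1) * ((q : ℂ) - 1) ^ 2 := by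
    rw [hWc] at e1; linear_combination e1
  have hAu : ∀ u : nrm U, (u : G) ∈ U → (u : G) ∉ zSub U →
      (∑ χ ∈ A, (χ : nrm U → ℂ) 1 * (χ : nrm U → ℂ) u = -((q : ℂ) - 1)) ∧
      ∑ χ ∈ A, (χ : nrm U → ℂ) u * conj ((χ : nrm U → ℂ) u) = (q : ℂ) ^ 2 - ((q : ℂ) - 1) := by
    intro u hu hu'
    constructor
    · rw [← hcol u hu (fun e => hu' (by rw [e]; exact one_mem _)), split,
        Finset.sum_eq_zero (s := W) fun χ hχ => by
          rw [h.vanish_high hcard χ (Finset.mem_filter.1 hχ).2 hu hu', mul_zero], add_zero]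
    · have e := Clifford.KernelChars.sum_rel_norm (kN U) (k := u) hu
      rw [h.cent_u hcard hu hu', h.index_kN, split,
        Finset.sum_eq_zero (s := W) (fun χ hχ => by
          rw [h.vanish_high hcard χ (Finset.mem_filter.1 hχ).2 hu hu', zero_mul]), add_zero] at e
      rw [e]; push_cast; ring
  -- the number of characters in the layer
  have hnorm : ∀ χ ∈ A, (q : ℂ) ^ 3 * ((q : ℂ) - 1) = q * (χ : nrm U → ℂ) 1 ^ 2 +
      ∑ x ∈ Finset.univ.filter (fun x : nrm U => (x : G) ∈ U ∧ (x : G) ∉ zSub U),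
        (χ : nrm U → ℂ) x * conj ((χ : nrm U → ℂ) x) := by
    intro χ hχ
    have hχA := (Finset.mem_filter.1 hχ).2
    have hs := classInner_self_irr χ
    rw [Cfsg.classInner, inv_mul_eq_one₀ Induced.Basic.natCard_ne_zero, h.card_nrm hcard,
      h.sum_nrm_split _ (fun x hx => by
        rw [Clifford.KernelChars.vanish (kN U) h.self_cen χ hχA.1 hx, zero_mul])] at hs
    rw [hs]
    congr 1
    rw [Finset.sum_congr rfl (g := fun _ => (χ : nrm U → ℂ) 1 ^ 2) (fun x hx => by
      rw [h.low_apply_z ⟨χ, hχA⟩ (Finset.mem_filter.1 hx).2,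
        conj_apply_one (isCharacter_irr χ), pow_two]), Finset.sum_const, nsmul_eq_mul, h.card_filter_z]
  have hAc : (A.card : ℂ) = (q : ℂ) + 1 := by
    have e := Finset.sum_congr rfl hnorm
    rw [Finset.sum_const, nsmul_eq_mul, Finset.sum_add_distrib, ← Finset.mul_sum, hsq,
      Finset.sum_comm, Finset.sum_congr rfl (fun x hx => (hAu x (Finset.mem_filter.1 hx).2.1
        (Finset.mem_filter.1 hx).2.2).2), Finset.sum_const, nsmul_eq_mul, h.card_filter_u hcard]
      at e
    refine mul_left_cancel₀ (mul_ne_zero (pow_ne_zero 3 hq0) hq1) ?_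
    linear_combination e
  choose n hn hnle using h.low_degree_le hcard
  have hdeg : ∀ r : Low U, (r.1 : nrm U → ℂ) 1 = (q : ℂ) - 1 := by
    have hsum : ∑ r : Low U, n r ^ 2 = ∑ _r : Low U, (q - 1) ^ 2 := by
      apply Nat.cast_injective (R := ℂ)
      rw [Finset.sum_const, smul_eq_mul, Nat.cast_sum, Finset.card_univ,
        show Fintype.card (Low U) = A.card from Fintype.card_subtype _]
      push_cast [Nat.cast_sub (show 1 ≤ q by have := h.four_le; omega)]
      rw [hAc, ← hsq, Finset.sum_subtype A (p := fun χ : Cfsg.IrrCharacter (nrm U) =>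
        Clifford.KernelChars.Rel (kN U) (χ : nrm U → ℂ) ∧
          ¬ Clifford.KernelChars.Rel (zN U) (χ : nrm U → ℂ)) (fun χ => by simp [hAdef])]
      exact Finset.sum_congr rfl fun r _ => by rw [hn r]
    intro r
    have := (Finset.sum_eq_sum_iff_of_le fun r _ =>
      Nat.pow_le_pow_left (show n r ≤ q - 1 by have := hnle r; omega) 2).1 hsum r (Finset.mem_univ r)
    rw [hn, Nat.pow_left_injective two_ne_zero this, Nat.cast_sub (by have := h.four_le; omega),
      Nat.cast_one]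
  refine ⟨hdeg, ?_, fun u hu hu' => ?_, ?_⟩
  · rw [Nat.card_eq_fintype_card, Fintype.card_subtype]
    exact_mod_cast hAc
  · obtain ⟨h1, h2⟩ := hAu u hu hu'
    rw [Finset.sum_subtype A (p := fun χ : Cfsg.IrrCharacter (nrm U) =>
        Clifford.KernelChars.Rel (kN U) (χ : nrm U → ℂ) ∧
          ¬ Clifford.KernelChars.Rel (zN U) (χ : nrm U → ℂ)) (fun χ => by simp [hAdef])] at h1 h2
    rw [finsum_eq_sum_of_fintype, finsum_eq_sum_of_fintype]
    refine ⟨?_, h2⟩
    rw [Finset.sum_congr rfl (g := fun r : Low U => ((q : ℂ) - 1) * (r.1 : nrm U → ℂ) u)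
      (fun r _ => by rw [hdeg r]), ← Finset.mul_sum] at h1
    exact mul_left_cancel₀ hq1 (by rw [h1]; ring)
  · obtain ⟨θ, hθ⟩ := Finset.card_eq_one.1 (show W.card = 1 by exact_mod_cast hWc)
    exact ⟨θ, fun ψ => by rw [← Finset.mem_singleton, ← hθ]; simp [hWdef]⟩

end Suz

end Cfsg.Agent.Lib.SuzukiKernel
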