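import Cfsg.Agent.Lib.SuzukiKernel.Nondeg
import Cfsg.Agent.Lib.Zassenhaus.IndChar
import Cfsg.Agent.Lib.Characters.Linear
import Cfsg.Agent.Lib.Characters.Transitive

/-!
# The principal series
-/

set_option autoImplicit false
set_option linter.unusedSectionVars false

namespace Cfsg.Agent.Lib.SuzukiKernel

open MulAction
open Cfsg.Agent.Lib.Zassenhaus
open Cfsg.Agent.Lib.Characters.Basic
open scoped ComplexConjugate Classical

universe u v

variable {G : Type u} {Ω : Type v} [Group G] [Fintype G] [MulAction G Ω] [Finite Ω] {a b : Ω}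
  {U : Subgroup G} {q : ℕ}

namespace Suz

variable (h : Suz a b U q)
include h

theorem card_omega : Nat.card Ω = Nat.card U + 1 := (RegKernel.card_add_one h.hab h.hU).symm

theorem index_stab : (stabilizer G a).index = Nat.card Ω := by
  have := pretransitive h.hZG
  exact MulAction.index_stabilizer_of_transitive G a

theorem fixed_kernel : ∀ u ∈ U, u ≠ 1 → ∀ c : Ω, u • c = c → c = a := fun u hu hu1 c hc => by
  by_contra hca
  exact hu1 (RegKernel.free h.hab h.hU hu hca hc)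

/-- The permutation character minus one. -/
theorem exists_steinberg : ∃ S : Cfsg.IrrCharacter G, (S : G → ℂ) 1 = (Nat.card U : ℂ) ∧
    ∀ u ∈ U, u ≠ 1 → (S : G → ℂ) u = 0 := by
  have := pretransitive h.hZG
  have h2 : 2 ≤ Nat.card Ω := by
    rw [h.card_omega]
    have := RegKernel.two_le_card h.hZG h.hab h.hU
    omega
  refine ⟨⟨_, (Characters.Transitive.isIrrCharacter_iff Ω h2).2 (two_trans h.hZG)⟩, ?_,
    fun u hu hu1 => ?_⟩
  · show (Nat.card (fixedBy Ω (1 : G)) : ℂ) - 1 = _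
    have e : Nat.card (fixedBy Ω (1 : G)) = Nat.card Ω :=
      Nat.card_congr (Equiv.subtypeUnivEquiv fun x => one_smul G x)
    rw [e, h.card_omega]
    push_cast; ring
  · show (Nat.card (fixedBy Ω u) : ℂ) - 1 = 0
    have e : fixedBy Ω u = {a} := Set.ext fun c =>
      ⟨fun hc => h.fixed_kernel u hu hu1 c hc, fun hc => by
        rw [Set.mem_singleton_iff] at hc
        rw [hc]; exact mem_stabilizer_iff.1 (h.hU.le hu)⟩
    rw [e, Nat.card_coe_set_eq, Set.ncard_singleton, Nat.cast_one, sub_self]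

/-- `(q - 2) / 2` principal series characters. -/
theorem exists_series (hcyc : IsCyclic ↥(stabilizer G a ⊓ stabilizer G b)) :
    ∃ P : Fin ((q - 2) / 2) → Cfsg.IrrCharacter G, Function.Injective P ∧
      ∀ i, (P i : G → ℂ) 1 = (Nat.card Ω : ℂ) ∧ ∀ u ∈ U, u ≠ 1 → (P i : G → ℂ) u = 1 := by
  have := Fintype.ofFinite Ω
  have hq4 := h.four_le
  set S := stabilizer G a with hS
  set D := stabilizer G a ⊓ stabilizer G b with hD
  let Un : Subgroup S := U.subgroupOf S
  haveI : Un.Normal := ⟨fun x hx g => h.hU.conj g g.2 x hx⟩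
  let π : D →* S ⧸ Un := (QuotientGroup.mk' Un).comp (Subgroup.inclusion inf_le_left)
  have hπ : Function.Bijective π := by
    constructor
    · rw [injective_iff_map_eq_one]
      intro δ hδ
      have hU' : (δ : G) ∈ U := (QuotientGroup.eq_one_iff (N := Un) (Subgroup.inclusion inf_le_left δ)).1 hδ
      exact Subtype.ext (RegKernel.inter_pair h.hab h.hU hU' (mem_pair_stabilizer.1 δ.2).2)
    · intro x
      obtain ⟨g, rfl⟩ := QuotientGroup.mk_surjective x
      obtain ⟨u, hu, hδ⟩ := RegKernel.decomp h.hab h.hU (mem_stabilizer_iff.1 g.2)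
      refine ⟨⟨_, hδ⟩, ?_⟩
      refine QuotientGroup.eq.2 ?_
      show (u⁻¹ * (g : G))⁻¹ * g ∈ U
      rw [show (u⁻¹ * (g : G))⁻¹ * g = (g : G)⁻¹ * u * g by group]
      have := h.hU.conj (g⁻¹ : S) (g⁻¹ : S).2 u hu
      simpa [mul_assoc] using this
  have hcardQ : Nat.card (S ⧸ Un) = q - 1 := by
    rw [← Nat.card_eq_of_bijective π hπ]
    have hd' : Nat.card D + 1 = q := h.hd
    omega
  haveI : IsCyclic (S ⧸ Un) := isCyclic_of_surjective π hπ.2
  obtain ⟨g, hg⟩ := IsCyclic.exists_generator (α := S ⧸ Un)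
  obtain ⟨δ₀, rfl⟩ := hπ.2 g
  have hordg : orderOf (π δ₀) = q - 1 := by rw [orderOf_eq_card_of_forall_mem_zpowers hg, hcardQ]
  set ζ : ℂ := Complex.exp (2 * Real.pi * Complex.I / ((q - 1 : ℕ) : ℂ)) with hζ
  have hprim : IsPrimitiveRoot ζ (q - 1) := Complex.isPrimitiveRoot_exp (q - 1) (by omega)
  let z : ℂˣ := (hprim.isUnit (by omega)).unit
  have hzζ : (z : ℂ) = ζ := rfl
  have hz : z ^ (q - 1) = 1 := Units.ext (by rw [Units.val_pow_eq_pow_val, hzζ, hprim.pow_eq_one,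
    Units.val_one])
  have hdvd : ∀ m : ℕ, orderOf (z ^ m) ∣ orderOf (π δ₀) := fun m => by
    rw [hordg]
    exact orderOf_dvd_of_pow_eq_one (by rw [← pow_mul, mul_comm, pow_mul, hz, one_pow])
  let lam : ℕ → (S →* ℂˣ) := fun m =>
    (monoidHomOfForallMemZpowers hg (hdvd m)).comp (QuotientGroup.mk' Un)
  set s₀ : S := Subgroup.inclusion inf_le_left δ₀ with hs₀
  have hlam : ∀ m, lam m s₀ = z ^ m := fun m => monoidHomOfForallMemZpowers_apply_gen hg (hdvd m)
  have hlamU : ∀ m, ∀ u : S, (u : G) ∈ U → lam m u = 1 := fun m u hu => by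
    show monoidHomOfForallMemZpowers hg (hdvd m) (QuotientGroup.mk' Un u) = 1
    rw [QuotientGroup.mk'_apply, (QuotientGroup.eq_one_iff u).2 hu, map_one]
  let μ : ℕ → (S → ℂ) := fun m => fun x => (lam m x : ℂ)
  have hμchar : ∀ m, Cfsg.IsCharacter S (μ m) := fun m =>
    (Clifford.Linear.isCharacter_toFunHom (lam m)).1
  obtain ⟨t, ht, hta, htb⟩ := exists_swap h.hZG h.hab
  obtain ⟨c₀, hc₀, hc₀u⟩ := existsUnique_fixed_of_odd h.hZG h.odd ht
  have hinv : ∀ δ ∈ D, t * δ * t⁻¹ = δ⁻¹ := fun δ hδ =>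
    swap_inverts h.hZG h.hab ht hta htb hc₀ hc₀u hδ
  have hirr : ∀ m : ℕ, 0 < m → m < q - 1 →
      Cfsg.IsIrrCharacter G (Cfsg.indFun S (μ m)) ∧ ∀ u ∈ U, u ≠ 1 → Cfsg.indFun S (μ m) u = 1 := by
    intro m hm0 hm
    refine IndChar.isIrr_indFun h.hZG h.hab ?_ ⟨t, hta, hinv⟩ U h.hU.le
      (by rw [← Nat.card_eq_fintype_card, h.card_omega]) h.fixed_kernel
      ⟨hμchar m, by simp [μ]⟩ (fun u hu => by simp [μ, hlamU m u hu]) fun e => ?_
    · rw [Nat.odd_iff]
      obtain ⟨k, hk2, hk⟩ := h.hq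
      have h2 : 2 ∣ q := hk ▸ dvd_pow_self 2 (by omega)
      have hd' : Nat.card D + 1 = q := h.hd
      show Nat.card D % 2 = 1
      omega
    · have e1 : (lam m s₀ : ℂ) = 1 := congrFun e s₀
      rw [hlam, Units.val_pow_eq_pow_val, hzζ] at e1
      exact absurd (Nat.le_of_dvd hm0 (hprim.dvd_of_pow_eq_one m e1)) (by omega)
  have hlt : ∀ i : Fin ((q - 2) / 2), i.1 + 1 < q - 1 := fun i => by omega
  let P : Fin ((q - 2) / 2) → Cfsg.IrrCharacter G := fun i =>
    ⟨_, (hirr (i.1 + 1) (Nat.succ_pos _) (hlt i)).1⟩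
  -- the value at a generator
  have hval : ∀ m, Cfsg.indFun S (μ m) (δ₀ : G) = ζ ^ m + (ζ ^ m)⁻¹ := by
    intro m
    obtain ⟨hδa, hδb⟩ := mem_pair_stabilizer.1 δ₀.2
    have hδ1 : (δ₀ : G) ≠ 1 := fun e => by
      have h1 : π δ₀ = 1 := by rw [show δ₀ = 1 from Subtype.ext e, map_one]
      rw [h1, orderOf_one] at hordg
      omega
    have hcl : ∀ (x : S) (y : G) (hy : (x : G)⁻¹ * y * x ∈ S) (hy' : y ∈ S),
        μ m ⟨_, hy⟩ = μ m ⟨y, hy'⟩ := fun x y hy hy' => by
      rw [show (⟨_, hy⟩ : S) = x⁻¹ * ⟨y, hy'⟩ * (x⁻¹)⁻¹ from Subtype.ext (by simp)]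
      exact isClassFunction_of_isCharacter (hμchar m) _ _
    rw [Cfsg.indFun, ← Finset.sum_filter_add_sum_filter_not Finset.univ (fun x : G => x • a = a)]
    have e1 : ∑ x ∈ Finset.univ.filter (fun x : G => x • a = a),
        Cfsg.extendByZero S (μ m) (x⁻¹ * δ₀ * x) = (Nat.card S : ℂ) * ζ ^ m := by
      rw [Finset.sum_congr rfl (g := fun _ => ζ ^ m) fun x hx => by
        have hxS : x ∈ S := (Finset.mem_filter.1 hx).2
        have hy : x⁻¹ * (δ₀ : G) * x ∈ S := mul_mem (mul_mem (inv_mem hxS) δ₀.2.1) hxS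
        rw [Induced.Basic.extendByZero_of_mem S _ hy, hcl ⟨x, hxS⟩ _ hy δ₀.2.1]
        show (lam m s₀ : ℂ) = _
        rw [hlam, Units.val_pow_eq_pow_val, hzζ], Finset.sum_const, nsmul_eq_mul,
        ← Fintype.card_subtype, ← Nat.card_eq_fintype_card]
      rfl
    have e2 : ∑ x ∈ Finset.univ.filter (fun x : G => ¬ x • a = a),
        Cfsg.extendByZero S (μ m) (x⁻¹ * δ₀ * x) = (Nat.card S : ℂ) * (ζ ^ m)⁻¹ := by
      rw [← Finset.sum_filter_add_sum_filter_not _ (fun x : G => x • a = b),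
        Finset.sum_eq_zero (s := (Finset.univ.filter fun x : G => ¬ x • a = a).filter
          fun x : G => ¬ x • a = b) (fun x hx => by
          obtain ⟨hx1, hxb⟩ := Finset.mem_filter.1 hx
          refine Induced.Basic.extendByZero_of_not_mem S _ fun hm' => ?_
          rw [mem_stabilizer_iff, mul_smul, mul_smul, inv_smul_eq_iff] at hm'
          exact hδ1 (eq_one_of_three h.hZG h.hab (Ne.symm hxb)
            (Ne.symm (Finset.mem_filter.1 hx1).2) hδa hδb hm')), add_zero,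
        Finset.sum_congr rfl (g := fun _ => (ζ ^ m)⁻¹) fun x hx => by
          obtain ⟨-, hxb⟩ := Finset.mem_filter.1 hx
          have hxS : t⁻¹ * x ∈ S := by
            rw [hS, mem_stabilizer_iff, mul_smul, hxb, inv_smul_eq_iff, hta]
          have e : x⁻¹ * (δ₀ : G) * x = (t⁻¹ * x)⁻¹ * (δ₀ : G)⁻¹ * (t⁻¹ * x) := by
            have hh := hinv _ (inv_mem δ₀.2)
            rw [inv_inv] at hh
            nth_rewrite 1 [← hh]
            group
          have hy : (t⁻¹ * x)⁻¹ * (δ₀ : G)⁻¹ * (t⁻¹ * x) ∈ S :=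
            mul_mem (mul_mem (inv_mem hxS) (inv_mem δ₀.2.1)) hxS
          rw [e, Induced.Basic.extendByZero_of_mem S _ hy,
            hcl ⟨_, hxS⟩ _ hy (inv_mem δ₀.2.1)]
          show ((lam m s₀⁻¹ : ℂˣ) : ℂ) = _
          rw [map_inv, hlam, Units.val_inv_eq_inv_val, Units.val_pow_eq_pow_val, hzζ],
        Finset.sum_const, nsmul_eq_mul]
      congr 2
      rw [Finset.filter_filter, ← Fintype.card_subtype, ← Nat.card_eq_fintype_card]
      exact Nat.card_congr
        { toFun := fun x => (⟨t⁻¹ * x.1, by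
            rw [hS, mem_stabilizer_iff, mul_smul, x.2.2, inv_smul_eq_iff, hta]⟩ : S)
          invFun := fun y => ⟨t * y, by
            rw [mul_smul, mem_stabilizer_iff.1 y.2, hta]; exact h.hab.symm,
            by rw [mul_smul, mem_stabilizer_iff.1 y.2, hta]⟩
          left_inv := fun x => Subtype.ext (mul_inv_cancel_left _ _)
          right_inv := fun y => Subtype.ext (inv_mul_cancel_left _ _) }
    rw [e1, e2, ← mul_add, ← mul_assoc, inv_mul_cancel₀ Induced.Basic.natCard_ne_zero, one_mul]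
  refine ⟨P, fun i j hij => ?_, fun i => ⟨?_, (hirr _ (Nat.succ_pos _) (hlt i)).2⟩⟩
  · have e : Cfsg.indFun S (μ (i.1 + 1)) (δ₀ : G) = Cfsg.indFun S (μ (j.1 + 1)) (δ₀ : G) :=
      congrArg (fun χ : Cfsg.IrrCharacter G => (χ : G → ℂ) (δ₀ : G)) hij
    rw [hval, hval] at e
    have hζ0 : ∀ n, ζ ^ n ≠ 0 := fun n => pow_ne_zero n (hprim.ne_zero (by omega))
    have e' : (ζ ^ (i.1 + 1) - ζ ^ (j.1 + 1)) * (ζ ^ (i.1 + 1 + (j.1 + 1)) - 1) = 0 := by
      have := hζ0 (i.1 + 1)
      have := hζ0 (j.1 + 1)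
      field_simp at e
      rw [pow_add ζ (i.1 + 1)]
      linear_combination e
    rcases mul_eq_zero.1 e' with e'' | e''
    · have := hprim.pow_inj (hlt i) (hlt j) (sub_eq_zero.1 e'')
      exact Fin.ext (by omega)
    · have := Nat.le_of_dvd (by omega) (hprim.dvd_of_pow_eq_one _ (sub_eq_zero.1 e''))
      omega
  · show Cfsg.indFun S (μ _) 1 = _
    rw [Induced.Basic.indFun_one, h.index_stab]
    simp [μ]

end Suz

end Cfsg.Agent.Lib.SuzukiKernel
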