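import Cfsg.Agent.Lib.SuzukiKernel.Arith
import Cfsg.Agent.Lib.SuzukiKernel.Layer
import Cfsg.Agent.Lib.SuzukiKernel.Series
import Cfsg.Agent.Lib.Characters.Degree
import Cfsg.Agent.Lib.PrimeDegrees.Simple
import Cfsg.Agent.S0170
import Cfsg.Agent.S0338

/-!
# The kernel has order `q ^ 2`
-/

set_option autoImplicit false
set_option linter.unusedSectionVars false

namespace Cfsg.Agent.Lib.SuzukiKernel

open MulAction
open Cfsg.Agent.Lib.Zassenhaus
open Cfsg.Agent.Lib.Characters.Basic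
open AbelianChars (nrm)
open scoped ComplexConjugate Classical

universe u v

variable {G : Type u} {Ω : Type v} [Group G] [Fintype G] [MulAction G Ω] [Finite Ω] {a b : Ω}
  {U : Subgroup G} {q : ℕ}

/-- A linear layer sum as a subtype sum. -/
theorem sum_split_low [Fintype (Cfsg.IrrCharacter (nrm U))] (h : Suz a b U q)
    {θ : Cfsg.IrrCharacter (nrm U)}
    (hθ : ∀ ψ : Cfsg.IrrCharacter (nrm U),
      Clifford.KernelChars.Rel (zN U) (ψ : nrm U → ℂ) ↔ ψ = θ)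
    (F : Cfsg.IrrCharacter (nrm U) → ℂ) :
    ∑ ψ, F ψ = ∑ ψ ∈ Finset.univ.filter (fun ψ : Cfsg.IrrCharacter (nrm U) =>
        ¬ Clifford.KernelChars.Rel (kN U) (ψ : nrm U → ℂ)), F ψ + ∑ r : Low U, F r.1 + F θ := by
  rw [← Finset.sum_filter_add_sum_filter_not Finset.univ
    (fun ψ : Cfsg.IrrCharacter (nrm U) => Clifford.KernelChars.Rel (kN U) (ψ : nrm U → ℂ)),
    ← Finset.sum_filter_add_sum_filter_not (Finset.univ.filter fun ψ : Cfsg.IrrCharacter (nrm U) =>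
      Clifford.KernelChars.Rel (kN U) (ψ : nrm U → ℂ))
    (fun ψ : Cfsg.IrrCharacter (nrm U) => ¬ Clifford.KernelChars.Rel (zN U) (ψ : nrm U → ℂ)),
    Finset.filter_filter, Finset.filter_filter]
  have e1 : (Finset.univ.filter fun ψ : Cfsg.IrrCharacter (nrm U) =>
      Clifford.KernelChars.Rel (kN U) (ψ : nrm U → ℂ) ∧
        ¬¬ Clifford.KernelChars.Rel (zN U) (ψ : nrm U → ℂ)) = {θ} := by
    ext ψ
    simp only [Finset.mem_filter, Finset.mem_univ, true_and, not_not, Finset.mem_singleton]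
    exact ⟨fun hψ => (hθ ψ).1 hψ.2, fun hψ => ⟨h.rel_zN ((hθ ψ).2 hψ), (hθ ψ).2 hψ⟩⟩
  rw [e1, Finset.sum_singleton, Finset.sum_subtype _ (p := fun ψ : Cfsg.IrrCharacter (nrm U) =>
    Clifford.KernelChars.Rel (kN U) (ψ : nrm U → ℂ) ∧
      ¬ Clifford.KernelChars.Rel (zN U) (ψ : nrm U → ℂ)) (fun ψ => by simp) F]
  ring

namespace Suz

variable (h : Suz a b U q)
include h

/-- Exceptional characters of the linear layer. -/
theorem exists_exceptional (hcard : Nat.card U = q ^ 3) :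
    ∃ (ε : ℤ) (f : Low U → Cfsg.IrrCharacter G), (ε = 1 ∨ ε = -1) ∧ Function.Injective f ∧
      ∀ r r' : Low U, Cfsg.indFun (nrm U) ((r.1 : nrm U → ℂ) - (r'.1 : nrm U → ℂ)) =
        (ε : ℂ) • ((f r : G → ℂ) - (f r' : G → ℂ)) := by
  obtain ⟨hdeg, hcnt, -⟩ := h.low_facts hcard
  let eqv : Low U ≃ Fin (q + 1) := (Finite.equivFin _).trans (finCongr hcnt)
  obtain ⟨ε, hε, θ, hθ, hinj, hind⟩ := Cfsg.Agent.S0170.result (G := G) (U : Set G)
    Subgroup.le_normalizer (RegKernel.ti h.hZG h.hab h.hU) (q + 1) (by have := h.four_le; omega)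
    (fun i => ((eqv.symm i).1 : nrm U → ℂ)) (fun i => (eqv.symm i).1.2)
    (fun i j e => eqv.symm.injective (Subtype.ext (Subtype.ext e)))
    (fun i x hx => Clifford.KernelChars.vanish (kN U) h.self_cen (eqv.symm i).1 (eqv.symm i).2.1 hx)
    (fun i j => (hdeg _).trans (hdeg _).symm)
  obtain ⟨ε', hε', rfl⟩ : ∃ ε' : ℤ, (ε' = 1 ∨ ε' = -1) ∧ (ε' : ℂ) = ε := by
    rcases hε with rfl | rfl
    · exact ⟨1, Or.inl rfl, by norm_num⟩
    · exact ⟨-1, Or.inr rfl, by norm_num⟩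
  refine ⟨ε', fun r => ⟨θ (eqv r), hθ _⟩, hε',
    fun r r' e => eqv.injective (hinj (congrArg Subtype.val e)), fun r r' => ?_⟩
  have := hind (eqv r) (eqv r')
  erw [Equiv.symm_apply_apply, Equiv.symm_apply_apply] at this
  exact (Induced.Basic.indFun_sub _ _ _).trans this

/-- The values on the kernel of a character of `G`. -/
theorem expansion (hcard : Nat.card U = q ^ 3) {ε : ℤ} (hε : ε = 1 ∨ ε = -1)
    {f : Low U → Cfsg.IrrCharacter G} (hinj : Function.Injective f)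
    (hind : ∀ r r' : Low U, Cfsg.indFun (nrm U) ((r.1 : nrm U → ℂ) - (r'.1 : nrm U → ℂ)) =
      (ε : ℂ) • ((f r : G → ℂ) - (f r' : G → ℂ))) (χ : Cfsg.IrrCharacter G) :
    ∃ v b c : ℤ, 0 ≤ b ∧
      ((∀ r, f r ≠ χ) → (χ : G → ℂ) 1 = v + (q : ℂ) ^ 2 * b + q * ((q : ℂ) - 1) * c ∧
        (∀ z ∈ zSub U, z ≠ 1 → (χ : G → ℂ) z = v + (q : ℂ) ^ 2 * b - q * c) ∧
        ∀ u ∈ U, u ∉ zSub U → (χ : G → ℂ) u = v) ∧
      ∀ r, f r = χ →
        (χ : G → ℂ) 1 = v + (q : ℂ) ^ 2 * b + ε * ((q : ℂ) - 1) + q * ((q : ℂ) - 1) * c ∧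
        (∀ z ∈ zSub U, z ≠ 1 →
          (χ : G → ℂ) z = v + (q : ℂ) ^ 2 * b + ε * ((q : ℂ) - 1) - q * c) ∧
        ∀ u : nrm U, (u : G) ∈ U → (u : G) ∉ zSub U →
          (χ : G → ℂ) u = v + ε * (r.1 : nrm U → ℂ) u := by
  have := Fintype.ofFinite (Cfsg.IrrCharacter (nrm U))
  obtain ⟨hdeg, hcnt, hcol, θ, hθ⟩ := h.low_facts hcard
  set D : nrm U → ℂ := fun y => (χ : G → ℂ) y with hD
  have hDc : Cfsg.IsCharacter (nrm U) D := isCharacter_comp (nrm U).subtype (isCharacter_irr χ)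
  choose m hm using fun ψ : Cfsg.IrrCharacter (nrm U) =>
    exists_classInner_nat hDc (isCharacter_irr ψ)
  have hDval : ∀ x, D x = ∑ ψ, (m ψ : ℂ) * (ψ : nrm U → ℂ) x := fun x => by
    have e := congrFun (Characters.Complete.classFunction_eq_sum
      (isClassFunction_of_isCharacter hDc)) x
    simp only [Finset.sum_apply, Pi.smul_apply, smul_eq_mul, hm] at e
    exact e
  -- the multiplicities in the linear layer
  let δ : Low U → ℤ := fun r => if f r = χ then 1 else 0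
  have hdiff : ∀ r r' : Low U, (m r.1 : ℤ) - m r'.1 = ε * (δ r - δ r') := by
    intro r r'
    have e : Cfsg.classInner ((r.1 : nrm U → ℂ) - (r'.1 : nrm U → ℂ)) D =
        (ε : ℂ) * (Cfsg.classInner (f r : G → ℂ) χ - Cfsg.classInner (f r' : G → ℂ) χ) := by
      rw [← Induced.Basic.frobenius_reciprocity _ _ (isClassFunction_irr χ), hind r r',
        Induced.Basic.classInner_smul_left, Induced.Basic.classInner_sub_left]
    rw [Induced.Basic.classInner_sub_left,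
      ← Induced.Basic.classInner_conj_symm D (r.1 : nrm U → ℂ),
      ← Induced.Basic.classInner_conj_symm D (r'.1 : nrm U → ℂ), hm, hm, map_natCast, map_natCast,
      classInner_irr, classInner_irr] at e
    have e2 : (((m r.1 : ℤ) - m r'.1 : ℤ) : ℂ) = ((ε * (δ r - δ r') : ℤ) : ℂ) := by
      push_cast
      rw [e]
      simp only [δ]
      split_ifs <;> simp
    exact_mod_cast e2
  obtain ⟨r₀⟩ : Nonempty (Low U) := (Nat.card_pos_iff.1 (by rw [hcnt]; omega)).1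
  obtain ⟨r₁, hr₁⟩ : ∃ r₁ : Low U, r₁ ≠ r₀ := by
    have : Nontrivial (Low U) := Finite.one_lt_card_iff_nontrivial.1 (by
      rw [hcnt]; have := h.four_le; omega)
    exact exists_ne r₀
  obtain ⟨b, hb⟩ : ∃ b : ℤ, ∀ r : Low U, (m r.1 : ℤ) = b + ε * δ r :=
    ⟨(m r₀.1 : ℤ) - ε * δ r₀, fun r => by linear_combination hdiff r r₀⟩
  have hb0 : 0 ≤ b := by
    obtain ⟨r, hr⟩ : ∃ r, f r ≠ χ := by
      by_cases e : f r₀ = χ
      · exact ⟨r₁, fun e' => hr₁ (hinj (e'.trans e.symm))⟩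
      · exact ⟨r₀, e⟩
    have := hb r
    simp only [δ, if_neg hr, mul_zero, add_zero] at this
    omega
  choose nd hnd using fun ψ : Cfsg.IrrCharacter (nrm U) => exists_degree (isCharacter_irr ψ)
  set M : ℤ := ∑ ψ ∈ Finset.univ.filter (fun ψ : Cfsg.IrrCharacter (nrm U) =>
    ¬ Clifford.KernelChars.Rel (kN U) (ψ : nrm U → ℂ)), ((m ψ : ℤ) * nd ψ) with hM
  have hlow : ∀ x : nrm U, ∑ r : Low U, (m r.1 : ℂ) * (r.1 : nrm U → ℂ) x =
      (b : ℂ) * ∑ r : Low U, (r.1 : nrm U → ℂ) x +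
        (ε : ℂ) * ∑ r : Low U, (δ r : ℂ) * (r.1 : nrm U → ℂ) x := by
    intro x
    rw [Finset.mul_sum, Finset.mul_sum, ← Finset.sum_add_distrib]
    refine Finset.sum_congr rfl fun r _ => ?_
    rw [show ((m r.1 : ℕ) : ℂ) = ((b + ε * δ r : ℤ) : ℂ) by rw [← hb r]; norm_cast]
    push_cast; ring
  have hnot : ∀ x : nrm U, (x : G) ∈ U →
      ∑ ψ ∈ Finset.univ.filter (fun ψ : Cfsg.IrrCharacter (nrm U) =>
        ¬ Clifford.KernelChars.Rel (kN U) (ψ : nrm U → ℂ)), (m ψ : ℂ) * (ψ : nrm U → ℂ) x =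
      (M : ℂ) := by
    intro x hx
    rw [hM, Int.cast_sum]
    refine Finset.sum_congr rfl fun ψ hψ => ?_
    have e : (ψ : nrm U → ℂ) x = (ψ : nrm U → ℂ) 1 := by
      by_contra hne
      exact (Finset.mem_filter.1 hψ).2 ⟨x, hx, hne⟩
    rw [e, hnd]; push_cast; rfl
  have hsum1 : ∑ r : Low U, (r.1 : nrm U → ℂ) 1 = ((q : ℂ) + 1) * ((q : ℂ) - 1) := by
    rw [Finset.sum_congr rfl fun r _ => hdeg r, Finset.sum_const, Finset.card_univ,
      ← Nat.card_eq_fintype_card, hcnt, nsmul_eq_mul]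
    push_cast; ring
  have hδ0 : (∀ r, f r ≠ χ) → ∀ x : nrm U, ∑ r : Low U, (δ r : ℂ) * (r.1 : nrm U → ℂ) x = 0 :=
    fun hne x => Finset.sum_eq_zero fun r _ => by simp [δ, hne r]
  have hδ1 : ∀ r, f r = χ → ∀ x : nrm U,
      ∑ r' : Low U, (δ r' : ℂ) * (r'.1 : nrm U → ℂ) x = (r.1 : nrm U → ℂ) x := fun r hr x => by
    rw [Finset.sum_eq_single r (fun r' _ hne => by
      simp [δ, show f r' ≠ χ from fun e => hne (hinj (e.trans hr.symm))]) (by simp)]
    simp [δ, hr]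
  have hθZ := (hθ θ).2 rfl
  have hv1 : (χ : G → ℂ) 1 = (M : ℂ) + (b : ℂ) * (((q : ℂ) + 1) * ((q : ℂ) - 1)) +
      (ε : ℂ) * ∑ r : Low U, (δ r : ℂ) * (r.1 : nrm U → ℂ) 1 +
      (m θ : ℂ) * (q * ((q : ℂ) - 1)) := by
    have e := hDval 1
    rw [sum_split_low h hθ, hnot 1 (one_mem U), hlow, hsum1, h.high_degree hcard θ hθZ] at e
    rw [show (χ : G → ℂ) 1 = D 1 from rfl, e]; ring
  have hvz : ∀ z : nrm U, (z : G) ∈ zSub U → z ≠ 1 → (χ : G → ℂ) z = (M : ℂ) +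
      (b : ℂ) * (((q : ℂ) + 1) * ((q : ℂ) - 1)) +
      (ε : ℂ) * ∑ r : Low U, (δ r : ℂ) * (r.1 : nrm U → ℂ) 1 - (m θ : ℂ) * q := by
    intro z hz hz1
    have e := hDval z
    have e1 := h.high_invol θ hθZ hz hz1
    rw [h.high_degree hcard θ hθZ] at e1
    have e2 : (θ : nrm U → ℂ) z = -(q : ℂ) :=
      mul_left_cancel₀ h.q_ne.2 (by linear_combination e1)
    rw [sum_split_low h hθ, hnot z (h.zSub_le hz), hlow, e2,
      Finset.sum_congr rfl (fun r _ => h.low_apply_z r hz), hsum1,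
      Finset.sum_congr rfl (g := fun r : Low U => (δ r : ℂ) * (r.1 : nrm U → ℂ) 1)
        (fun r _ => by rw [h.low_apply_z r hz])] at e
    rw [show (χ : G → ℂ) z = D z from rfl, e]; ring
  have hvu : ∀ u : nrm U, (u : G) ∈ U → (u : G) ∉ zSub U → (χ : G → ℂ) u = (M : ℂ) - b +
      (ε : ℂ) * ∑ r : Low U, (δ r : ℂ) * (r.1 : nrm U → ℂ) u := by
    intro u hu hu'
    have e := hDval u
    have e1 := (hcol u hu hu').1
    rw [finsum_eq_sum_of_fintype] at e1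
    rw [sum_split_low h hθ, hnot u hu, hlow, h.vanish_high hcard θ hθZ hu hu', e1] at e
    rw [show (χ : G → ℂ) u = D u from rfl, e]; ring
  refine ⟨M - b, b, m θ, hb0, fun hne => ⟨?_, fun z hz hz1 => ?_, fun u hu hu' => ?_⟩,
    fun r hr => ⟨?_, fun z hz hz1 => ?_, fun u hu hu' => ?_⟩⟩
  · rw [hv1, hδ0 hne]; push_cast; ring
  · rw [hvz ⟨z, h.mem_nrm (h.zSub_le hz)⟩ hz (fun e => hz1 (congrArg Subtype.val e)), hδ0 hne]
    push_cast; ring
  · rw [hvu ⟨u, h.mem_nrm hu⟩ hu hu', hδ0 hne]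
    push_cast; ring
  · rw [hv1, hδ1 r hr, hdeg]; push_cast; ring
  · rw [hvz ⟨z, h.mem_nrm (h.zSub_le hz)⟩ hz (fun e => hz1 (congrArg Subtype.val e)), hδ1 r hr,
      hdeg]
    push_cast; ring
  · rw [hvu u hu hu', hδ1 r hr]; push_cast; ring

/-- A character of the linear layer is not constant outside the centre. -/
theorem low_not_const (hcard : Nat.card U = q ^ 3) (r : Low U) :
    ¬ ∃ c : ℂ, ∀ u : nrm U, (u : G) ∈ U → (u : G) ∉ zSub U → (r.1 : nrm U → ℂ) u = c := by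
  rintro ⟨c, hc⟩
  obtain ⟨hdeg, -, -, -⟩ := h.low_facts hcard
  obtain ⟨hq0, hq1⟩ := h.q_ne
  have hsum : ∀ F : ℂ → ℂ, (∀ x : nrm U, x ∉ kN U → F ((r.1 : nrm U → ℂ) x) = 0) →
      ∑ x : nrm U, F ((r.1 : nrm U → ℂ) x) =
        (q : ℂ) * F ((q : ℂ) - 1) + ((q : ℂ) ^ 3 - q) * F c := by
    intro F hF
    have hz' : ∀ x ∈ Finset.univ.filter (fun x : nrm U => (x : G) ∈ zSub U),
        F ((r.1 : nrm U → ℂ) x) = F ((q : ℂ) - 1) := fun x hx => by
      rw [h.low_apply_z r (Finset.mem_filter.1 hx).2, hdeg r]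
    have hu' : ∀ x ∈ Finset.univ.filter (fun x : nrm U => (x : G) ∈ U ∧ (x : G) ∉ zSub U),
        F ((r.1 : nrm U → ℂ) x) = F c := fun x hx => by
      rw [hc x (Finset.mem_filter.1 hx).2.1 (Finset.mem_filter.1 hx).2.2]
    rw [h.sum_nrm_split _ hF, Finset.sum_congr rfl hz', Finset.sum_congr rfl hu',
      Finset.sum_const, Finset.sum_const, nsmul_eq_mul, nsmul_eq_mul, h.card_filter_z,
      h.card_filter_u hcard]
  have hv : ∀ x : nrm U, x ∉ kN U → (r.1 : nrm U → ℂ) x = 0 := fun x hx =>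
    Clifford.KernelChars.vanish (kN U) h.self_cen r.1 r.2.1 hx
  haveI : (kN U).Normal := Subgroup.normal_in_normalizer
  have e0 : ∑ x : nrm U, (r.1 : nrm U → ℂ) x = 0 := by
    rw [← Finset.sum_subset (Finset.subset_univ (Finset.univ.filter fun x : nrm U => x ∈ kN U))
      (fun x _ hx => hv x fun hh => hx (Finset.mem_filter.2 ⟨Finset.mem_univ _, hh⟩)),
      Finset.sum_subtype _ (p := fun x => x ∈ kN U) (fun x => by simp) _]
    exact Clifford.KernelChars.sum_kernel (kN U) r.1 r.2.1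
  rw [hsum (fun x => x) hv] at e0
  have e1 := classInner_self_irr r.1
  rw [Cfsg.classInner, inv_mul_eq_one₀ Induced.Basic.natCard_ne_zero, h.card_nrm hcard,
    hsum (fun x => x * conj x) (fun x hx => by rw [hv x hx, zero_mul])] at e1
  have hqp : (q : ℂ) + 1 ≠ 0 := by norm_cast
  have hce : c = -(1 / ((q : ℂ) + 1)) := by
    field_simp
    refine mul_left_cancel₀ (mul_ne_zero hq0 hq1) ?_
    linear_combination e0
  have hcc : conj c = c := by
    rw [hce, map_neg, map_div₀, map_add, map_natCast, map_one]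
  have hc1 : c * ((q : ℂ) + 1) + 1 = 0 := by rw [hce]; field_simp; ring
  rw [hcc, map_sub, map_natCast, map_one] at e1
  have e2 : (q : ℂ) * ((q : ℂ) - 1) * ((q : ℂ) + 1) * (q : ℂ) ^ 3 = 0 := by
    linear_combination ((q : ℂ) + 1) ^ 2 * e1 +
      ((q : ℂ) ^ 3 - q) * (c * ((q : ℂ) + 1) - 1) * hc1
  simp only [mul_eq_zero, pow_eq_zero_iff (by norm_num : 3 ≠ 0)] at e2
  tauto

/-- `|U| = q ^ 3` is impossible. -/
theorem card_ne_cube (hcyc : IsCyclic ↥(stabilizer G a ⊓ stabilizer G b)) :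
    Nat.card U ≠ q ^ 3 := by
  intro hcard
  have := Fintype.ofFinite Ω
  have := Fintype.ofFinite (Cfsg.IrrCharacter G)
  have := Fintype.ofFinite (Cfsg.IrrCharacter (nrm U))
  have hq4 := h.four_le
  obtain ⟨hdeg, hcnt, hcol, -⟩ := h.low_facts hcard
  obtain ⟨ε, f, hε, hinj, hind⟩ := h.exists_exceptional hcard
  choose v bb c hb hT hF using h.expansion hcard hε hinj hind
  obtain ⟨u₀, hu₀, hu₀'⟩ := h.exists_u hcard
  obtain ⟨z₀, hz₀, hz₀1⟩ := h.exists_z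
  have hz₀1' : (z₀ : G) ≠ 1 := fun e => hz₀1 (Subtype.ext e)
  obtain ⟨r₀⟩ : Nonempty (Low U) := (Nat.card_pos_iff.1 (by rw [hcnt]; omega)).1
  have hεc : (ε : ℂ) * ε = 1 := by rcases hε with rfl | rfl <;> norm_num
  haveI : (kN U).Normal := Subgroup.normal_in_normalizer
  -- the exceptional characters have common constants
  have hres : ∀ r r' : Low U, ∀ x : nrm U,
      (ε : ℂ) * ((f r : G → ℂ) x - (f r' : G → ℂ) x) =
        (r.1 : nrm U → ℂ) x - (r'.1 : nrm U → ℂ) x := by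
    intro r r' x
    have e := Clifford.TISubgroup.indFun_restrict U (RegKernel.centralizer_le h.hZG h.hab h.hU)
      (RegKernel.ti h.hZG h.hab h.hU) _
      (Characters.Complete.classFun_sub (isClassFunction_irr r.1) (isClassFunction_irr r'.1))
      (fun y hy => by
        rw [Pi.sub_apply, Clifford.KernelChars.vanish (kN U) h.self_cen r.1 r.2.1 hy,
          Clifford.KernelChars.vanish (kN U) h.self_cen r'.1 r'.2.1 hy, sub_zero])
      (by rw [Pi.sub_apply, hdeg, hdeg, sub_self]) x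
    rw [hind r r'] at e
    exact e
  have hu : ∀ r, ∀ u : nrm U, (u : G) ∈ U → (u : G) ∉ zSub U →
      (f r : G → ℂ) u = (v (f r₀) : ℂ) + ε * (r.1 : nrm U → ℂ) u := by
    intro r u hu hu'
    have e := hres r r₀ u
    have e2 := (hF (f r₀) r₀ rfl).2.2 u hu hu'
    linear_combination (ε : ℂ) * e + e2 - ((f r : G → ℂ) u - (f r₀ : G → ℂ) u) * hεc
  have hone : ∀ r, (f r : G → ℂ) 1 = (f r₀ : G → ℂ) 1 := by
    intro r
    have e := hres r r₀ 1
    rw [hdeg, hdeg, sub_self] at e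
    exact sub_eq_zero.1 ((mul_eq_zero.1 e).resolve_left fun e0 => by rw [e0] at hεc; simp at hεc)
  have hfz : ∀ r, (f r : G → ℂ) (z₀ : G) = (f r₀ : G → ℂ) (z₀ : G) := by
    intro r
    have e := hres r r₀ z₀
    rw [h.low_apply_z r hz₀, h.low_apply_z r₀ hz₀, hdeg, hdeg, sub_self] at e
    exact sub_eq_zero.1 ((mul_eq_zero.1 e).resolve_left fun e0 => by rw [e0] at hεc; simp at hεc)
  set v₀ := v (f r₀) with hv₀d
  set b₀ := bb (f r₀) with hb₀d
  set c₀ := c (f r₀) with hc₀d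
  set X : ℤ := v₀ + (q : ℤ) ^ 2 * b₀ + ε * ((q : ℤ) - 1) + q * ((q : ℤ) - 1) * c₀ with hX
  set Y : ℤ := v₀ + (q : ℤ) ^ 2 * b₀ + ε * ((q : ℤ) - 1) - q * c₀ with hY
  have hfX : ∀ r, (f r : G → ℂ) 1 = (X : ℂ) := fun r => by
    rw [hone r, (hF (f r₀) r₀ rfl).1, hX]; push_cast; ring
  have hfY : ∀ r, (f r : G → ℂ) (z₀ : G) = (Y : ℂ) := fun r => by
    rw [hfz r, (hF (f r₀) r₀ rfl).2.1 _ hz₀ hz₀1', hY]; push_cast; ring
  -- the other characters
  let T := {χ : Cfsg.IrrCharacter G // ¬ χ ∈ Set.range f}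
  let vT : T → ℤ := fun χ => v χ.1
  let bT : T → ℤ := fun χ => bb χ.1
  let jT : T → ℤ := fun χ => q * bb χ.1 - c χ.1
  let dT : T → ℤ := fun χ => vT χ + (q : ℤ) ^ 3 * bT χ - q * ((q : ℤ) - 1) * jT χ
  let sT : T → ℤ := fun χ => vT χ + q * jT χ
  have hne : ∀ χ : T, ∀ r, f r ≠ χ.1 := fun χ r e => χ.2 ⟨r, e⟩
  have hd : ∀ χ : T, (χ.1 : G → ℂ) 1 = (dT χ : ℂ) := fun χ => by
    rw [(hT χ.1 (hne χ)).1]; simp only [dT, vT, bT, jT]; push_cast; ring
  have hs : ∀ χ : T, (χ.1 : G → ℂ) (z₀ : G) = (sT χ : ℂ) := fun χ => by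
    rw [(hT χ.1 (hne χ)).2.1 _ hz₀ hz₀1']; simp only [sT, vT, jT]; push_cast; ring
  have hv : ∀ χ : T, (χ.1 : G → ℂ) (u₀ : G) = (vT χ : ℂ) := fun χ =>
    (hT χ.1 (hne χ)).2.2 _ hu₀ hu₀'
  have hsplit : ∀ F : Cfsg.IrrCharacter G → ℂ,
      ∑ χ, F χ = ∑ χ : T, F χ.1 + ∑ r : Low U, F (f r) := by
    intro F
    rw [← Fintype.sum_subtype_add_sum_subtype (fun χ => χ ∈ Set.range f) F, add_comm]
    congr 1
    convert (Fintype.sum_equiv (Equiv.ofInjective f hinj) (fun r => F (f r)) (fun x => F x.1)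
      fun r => rfl).symm
  obtain ⟨hs1, hs2⟩ := hcol u₀ hu₀ hu₀'
  rw [finsum_eq_sum_of_fintype] at hs1 hs2
  have hs1' : ∑ r : Low U, (starRingEnd ℂ) ((r.1 : nrm U → ℂ) u₀) = (-1 : ℂ) := by
    rw [← map_sum (starRingEnd ℂ), hs1, map_neg, map_one]
  have hcq : (Finset.univ : Finset (Low U)).card = q + 1 := by
    rw [Finset.card_univ, ← Nat.card_eq_fintype_card, hcnt]
  have horth := Characters.Complete.sum_irr_mul_conj (G := G)
  have hu₀1 : (u₀ : G) ≠ 1 := fun e => hu₀' (e ▸ one_mem _)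
  have hnuz : ¬ IsConj (z₀ : G) (u₀ : G) := fun e => by
    obtain ⟨g, hg⟩ := isConj_iff.1 e
    refine hu₀' (h.mem_zSub.2 ⟨hu₀, ?_⟩)
    have hz2 := (h.mem_zSub.1 hz₀).2
    rw [← hg, show g * (z₀ : G) * g⁻¹ * (g * z₀ * g⁻¹) = g * ((z₀ : G) * z₀) * g⁻¹ by group, hz2,
      mul_one, mul_inv_cancel]
  -- column relations
  have huu : ∑ χ, vT χ ^ 2 + ((q : ℤ) + 1) * v₀ ^ 2 - 2 * ε * v₀ + (q : ℤ) ^ 2 - ((q : ℤ) - 1) =
      (q : ℤ) ^ 2 := by
    have e := horth (u₀ : G) u₀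
    rw [if_pos (IsConj.refl _), h.card_centralizer hcard hu₀ hu₀', hsplit,
      Finset.sum_congr rfl (g := fun χ : T => ((vT χ ^ 2 : ℤ) : ℂ)) (fun χ _ => by
        rw [hv, map_intCast, Int.cast_pow]; ring),
      Finset.sum_congr rfl (g := fun r : Low U => (v₀ : ℂ) ^ 2 +
          (v₀ : ℂ) * ε * (r.1 : nrm U → ℂ) u₀ + (v₀ : ℂ) * ε * conj ((r.1 : nrm U → ℂ) u₀) +
          (r.1 : nrm U → ℂ) u₀ * conj ((r.1 : nrm U → ℂ) u₀)) (fun r _ => by
        rw [hu r u₀ hu₀ hu₀', map_add, map_mul, map_intCast, map_intCast]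
        linear_combination ((r.1 : nrm U → ℂ) u₀ * conj ((r.1 : nrm U → ℂ) u₀)) * hεc),
      Finset.sum_add_distrib, Finset.sum_add_distrib, Finset.sum_add_distrib, ← Finset.mul_sum,
      ← Finset.mul_sum, hs1, hs1', hs2, Finset.sum_const, hcq, nsmul_eq_mul, ← Int.cast_sum] at e
    apply Int.cast_injective (α := ℂ)
    push_cast at e ⊢
    linear_combination e
  have hzz : ∑ χ, sT χ ^ 2 + ((q : ℤ) + 1) * Y ^ 2 = (q : ℤ) ^ 3 := by
    have e := horth (z₀ : G) z₀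
    rw [if_pos (IsConj.refl _), h.centralizer_invol hz₀ hz₀1', hcard, hsplit,
      Finset.sum_congr rfl (g := fun χ : T => ((sT χ ^ 2 : ℤ) : ℂ)) (fun χ _ => by
        rw [hs, map_intCast, Int.cast_pow]; ring),
      Finset.sum_congr rfl (g := fun _ : Low U => (Y : ℂ) * Y) (fun r _ => by
        rw [hfY, map_intCast]), Finset.sum_const, hcq, nsmul_eq_mul, ← Int.cast_sum] at e
    apply Int.cast_injective (α := ℂ)
    push_cast at e ⊢
    linear_combination e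
  have hu1 : ∑ χ, dT χ * vT χ + X * (((q : ℤ) + 1) * v₀ - ε) = 0 := by
    have e := horth (1 : G) u₀
    rw [if_neg (fun e => hu₀1 (isConj_one_right.1 e)), hsplit,
      Finset.sum_congr rfl (g := fun χ : T => ((dT χ * vT χ : ℤ) : ℂ)) (fun χ _ => by
        rw [hd, hv, map_intCast, Int.cast_mul]),
      Finset.sum_congr rfl (g := fun r : Low U => (X : ℂ) * v₀ +
          (X : ℂ) * ε * conj ((r.1 : nrm U → ℂ) u₀)) (fun r _ => by
        rw [hfX, hu r u₀ hu₀ hu₀', map_add, map_mul, map_intCast, map_intCast]; ring),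
      Finset.sum_add_distrib, ← Finset.mul_sum Finset.univ _ ((X : ℂ) * ε), hs1', Finset.sum_const, hcq, nsmul_eq_mul,
      ← Int.cast_sum] at e
    apply Int.cast_injective (α := ℂ)
    push_cast at e ⊢
    linear_combination e
  have huz : ∑ χ, sT χ * vT χ + Y * (((q : ℤ) + 1) * v₀ - ε) = 0 := by
    have e := horth (z₀ : G) u₀
    rw [if_neg hnuz, hsplit,
      Finset.sum_congr rfl (g := fun χ : T => ((sT χ * vT χ : ℤ) : ℂ)) (fun χ _ => by
        rw [hs, hv, map_intCast, Int.cast_mul]),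
      Finset.sum_congr rfl (g := fun r : Low U => (Y : ℂ) * v₀ +
          (Y : ℂ) * ε * conj ((r.1 : nrm U → ℂ) u₀)) (fun r _ => by
        rw [hfY, hu r u₀ hu₀ hu₀', map_add, map_mul, map_intCast, map_intCast]; ring),
      Finset.sum_add_distrib, ← Finset.mul_sum Finset.univ _ ((Y : ℂ) * ε), hs1', Finset.sum_const, hcq, nsmul_eq_mul,
      ← Int.cast_sum] at e
    apply Int.cast_injective (α := ℂ)
    push_cast at e ⊢
    linear_combination e
  have hz1 : ∑ χ, dT χ * sT χ + ((q : ℤ) + 1) * (X * Y) = 0 := by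
    have e := horth (1 : G) z₀
    rw [if_neg (fun e => hz₀1' (isConj_one_right.1 e)), hsplit,
      Finset.sum_congr rfl (g := fun χ : T => ((dT χ * sT χ : ℤ) : ℂ)) (fun χ _ => by
        rw [hd, hs, map_intCast, Int.cast_mul]),
      Finset.sum_congr rfl (g := fun _ : Low U => (X : ℂ) * Y) (fun r _ => by
        rw [hfX, hfY, map_intCast]), Finset.sum_const, hcq, nsmul_eq_mul, ← Int.cast_sum] at e
    apply Int.cast_injective (α := ℂ)
    push_cast at e ⊢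
    linear_combination e
  have hG : (Nat.card G : ℤ) = ((q : ℤ) ^ 3 + 1) * (q : ℤ) ^ 3 * ((q : ℤ) - 1) := by
    rw [RegKernel.card_group h.hZG h.hab h.hU, h.card_omega, hcard]
    push_cast
    have e : (Nat.card ↥(stabilizer G a ⊓ stabilizer G b) : ℤ) = (q : ℤ) - 1 := by
      have := h.hd; omega
    rw [e]; ring
  have h11 : ∑ χ, dT χ ^ 2 + ((q : ℤ) + 1) * X ^ 2 =
      ((q : ℤ) ^ 3 + 1) * (q : ℤ) ^ 3 * ((q : ℤ) - 1) := by
    have e := Characters.Complete.sum_degree_mul_apply (1 : G)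
    rw [if_pos rfl, hsplit,
      Finset.sum_congr rfl (g := fun χ : T => ((dT χ ^ 2 : ℤ) : ℂ)) (fun χ _ => by
        rw [hd, Int.cast_pow]; ring),
      Finset.sum_congr rfl (g := fun _ : Low U => (X : ℂ) * X) (fun r _ => by rw [hfX]),
      Finset.sum_const, hcq, nsmul_eq_mul, ← Int.cast_sum,
      show ((Nat.card G : ℕ) : ℂ) = ((Nat.card G : ℤ) : ℂ) by norm_cast, hG] at e
    apply Int.cast_injective (α := ℂ)
    push_cast at e ⊢
    linear_combination e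
  have hdvd : ∀ χ, dT χ ∣ ((q : ℤ) ^ 3 + 1) * (q : ℤ) ^ 3 * ((q : ℤ) - 1) := by
    intro χ
    obtain ⟨n, -, hn, e⟩ := Characters.Degree.exists_degree_dvd χ.1
    have e' : dT χ = (n : ℤ) := Int.cast_injective (α := ℂ) (by rw [← hd χ, e, Int.cast_natCast])
    rw [e', ← hG]
    exact Int.natCast_dvd_natCast.2 hn
  have hXpos : 0 < X := by
    obtain ⟨n, hn, e⟩ := exists_degree_pos (f r₀)
    rw [hfX] at e
    have : X = (n : ℤ) := by exact_mod_cast e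
    omega
  -- the special characters are not exceptional
  have hnotf : ∀ χ : Cfsg.IrrCharacter G, ∀ w : ℂ,
      (∀ u ∈ U, u ≠ 1 → (χ : G → ℂ) u = w) → χ ∉ Set.range f := by
    rintro χ w hw ⟨r, rfl⟩
    refine h.low_not_const hcard r ⟨(ε : ℂ) * (w - v₀), fun u hu' hu'' => ?_⟩
    have e := hw u hu' (fun e => hu'' (e ▸ one_mem _))
    rw [hu r u hu' hu''] at e
    linear_combination (ε : ℂ) * e - (r.1 : nrm U → ℂ) u * hεc
  have hparams : ∀ χ : T, ∀ d w : ℤ, (χ.1 : G → ℂ) 1 = d →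
      (∀ u ∈ U, u ≠ 1 → (χ.1 : G → ℂ) u = w) →
      vT χ = w ∧ dT χ = d ∧ sT χ = w := by
    intro χ d w hd' hw
    refine ⟨Int.cast_injective (α := ℂ) ?_, Int.cast_injective (α := ℂ) ?_,
      Int.cast_injective (α := ℂ) ?_⟩
    · rw [← hv χ, hw _ hu₀ hu₀1]
    · rw [← hd χ, hd']
    · rw [← hs χ, hw _ (h.zSub_le hz₀) hz₀1']
  have hjb : ∀ χ : T, ∀ d w : ℤ, (χ.1 : G → ℂ) 1 = d →
      (∀ u ∈ U, u ≠ 1 → (χ.1 : G → ℂ) u = w) →
      vT χ = w ∧ jT χ = 0 ∧ d = w + (q : ℤ) ^ 3 * bT χ := by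
    intro χ d w hd' hw
    obtain ⟨e1, e2, e3⟩ := hparams χ d w hd' hw
    have hj0 : jT χ = 0 := by
      have : (q : ℤ) * jT χ = 0 := by simp only [sT] at e3; linarith
      exact (mul_eq_zero.1 this).resolve_left (by omega)
    refine ⟨e1, hj0, ?_⟩
    rw [← e2]; simp only [dT]; rw [hj0, e1]; ring
  have hq3 : (q : ℤ) ^ 3 ≠ 0 := pow_ne_zero 3 (by omega)
  let i₀ : T := ⟨oneChar G, hnotf _ 1 fun _ _ _ => rfl⟩
  have hi₀ : vT i₀ = 1 ∧ bT i₀ = 0 ∧ jT i₀ = 0 := by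
    obtain ⟨e1, e2, e3⟩ := hjb i₀ 1 1 (by simp [i₀, oneChar_apply])
      (fun _ _ _ => by simp [i₀, oneChar_apply])
    refine ⟨e1, ?_, e2⟩
    exact (mul_eq_zero.1 (show (q : ℤ) ^ 3 * bT i₀ = 0 by linarith)).resolve_left hq3
  obtain ⟨St, hSt1, hStu⟩ := h.exists_steinberg
  let i₁ : T := ⟨St, hnotf _ 0 hStu⟩
  have hi₁ : vT i₁ = 0 ∧ bT i₁ = 1 ∧ jT i₁ = 0 := by
    obtain ⟨e1, e2, e3⟩ := hjb i₁ ((q : ℤ) ^ 3) 0 (by
        show (St : G → ℂ) 1 = _
        rw [hSt1, hcard]; push_cast; rfl)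
      (fun u hu' hu1 => by show (St : G → ℂ) u = _; rw [hStu u hu' hu1, Int.cast_zero])
    exact ⟨e1, (mul_eq_left₀ hq3).1 (by linarith), e2⟩
  obtain ⟨Ps, hPinj, hPv⟩ := h.exists_series hcyc
  let Pe : Fin ((q - 2) / 2) ↪ T := ⟨fun i => ⟨Ps i, hnotf _ 1 (hPv i).2⟩,
    fun i j e => hPinj (congrArg Subtype.val e)⟩
  have hP : ∀ χ ∈ Finset.univ.map Pe, vT χ = 1 ∧ bT χ = 1 ∧ jT χ = 0 := by
    intro χ hχ
    obtain ⟨i, -, rfl⟩ := Finset.mem_map.1 hχ
    obtain ⟨e1, e2, e3⟩ := hjb (Pe i) ((q : ℤ) ^ 3 + 1) 1 (by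
        show (Ps i : G → ℂ) 1 = _
        rw [(hPv i).1, h.card_omega, hcard]; push_cast; rfl)
      (fun u hu' hu1 => by show (Ps i : G → ℂ) u = _; rw [(hPv i).2 u hu' hu1, Int.cast_one])
    exact ⟨e1, (mul_eq_left₀ hq3).1 (by linarith), e2⟩
  obtain ⟨k, hk2, hqk⟩ := h.hq
  have hPc : 2 * ((Finset.univ.map Pe).card : ℤ) = (q : ℤ) - 2 := by
    rw [Finset.card_map, Finset.card_univ, Fintype.card_fin]
    have h2 : 2 ∣ q := hqk ▸ dvd_pow_self 2 (by omega)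
    omega
  obtain ⟨hv0, hXe, hYe⟩ := Arith.core (q := (q : ℤ)) (k := k) (by rw [hqk]; push_cast; rfl)
    (by omega) hε vT bT jT dT sT v₀ b₀ c₀ X Y (fun _ => rfl) (fun _ => rfl) hX hY
    (fun χ => hb χ.1) (hb _) hXpos huu hzz hu1 huz hz1 h11 hdvd i₀ i₁ hi₀ hi₁ _ hP hPc
  -- the kernel
  haveI : IsSimpleGroup G := Cfsg.Agent.S0338.result h.hZG
    (by rw [← Nat.card_eq_fintype_card]; exact h.odd)
  obtain ⟨x, hx, y, hy, hxy⟩ : ∃ x ∈ U, ∃ y ∈ U, x * y ≠ y * x := by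
    obtain ⟨w, hwU, hw⟩ := h.comm_surj hcard hu₀ hu₀' hz₀
    exact ⟨w, hwU, u₀, hu₀, fun e => hz₀1' (hw ▸ commutatorElement_eq_one_iff_mul_comm.2 e)⟩
  refine hz₀1' (PrimeDegrees.Simple.eq_one_of_value (fun hall => hxy (hall x y)) (f r₀) ?_ ?_)
  · intro e
    have e1 := hfX r₀
    rw [e, oneChar_apply, hXe] at e1
    push_cast at e1
    have : ((q : ℕ) : ℂ) = ((2 : ℕ) : ℂ) := by push_cast; linear_combination -e1
    have : q = 2 := by exact_mod_cast this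
    omega
  · rw [hfY, hfX, hXe, hYe]

theorem card_eq_sq (hcyc : IsCyclic ↥(stabilizer G a ⊓ stabilizer G b)) :
    Nat.card U = q ^ 2 :=
  h.card.resolve_right (h.card_ne_cube hcyc)

end Suz

end Cfsg.Agent.Lib.SuzukiKernel
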