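import Cfsg.Agent.Lib.SuzukiKernel.Tori
import Cfsg.Agent.Lib.SuzukiKernel.Order
import Cfsg.Prelude.Def_Exceptional

/-!
# Zassenhaus groups with a nonabelian 2-group as kernel: conclusions
-/

set_option autoImplicit false
set_option linter.unusedSectionVars false

namespace Cfsg.Agent.Lib.SuzukiKernel

open MulAction
open Cfsg.Agent.Lib.Zassenhaus

universe u v

variable {G : Type u} {Ω : Type v} [Group G] [MulAction G Ω] [Finite Ω]
  (hZ : Cfsg.IsZassenhausGroup G Ω) {a b : Ω} (hab : a ≠ b) {U : Subgroup G}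
  (hU : RegKernel a b U)

include hZ hab hU

/-- Degree, two-point stabiliser and kernel. -/
theorem structure_thm (hU2 : IsPGroup 2 U) (hna : ∃ u v : U, u * v ≠ v * u)
    (hcyc : IsCyclic ↥(stabilizer G a ⊓ stabilizer G b)) :
    ∃ k : ℕ, Odd k ∧ 1 < k ∧ Nat.card Ω = 2 ^ (2 * k) + 1 ∧
      Nat.card ↥(stabilizer G a ⊓ stabilizer G b) = 2 ^ k - 1 ∧
      Nat.card U = (2 ^ k) ^ 2 ∧ Nat.card (Subgroup.center U) = 2 ^ k ∧
      Cfsg.IsSuzukiTwoGroup U := by
  have := finite_group hZ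
  have := Fintype.ofFinite G
  obtain ⟨q, h, hS, hc⟩ := exists_suz hZ hab hU hU2 hna hcyc
  have hcard := h.card_eq_sq hcyc
  obtain ⟨k, hk, hk1, rfl⟩ := h.exists_odd_pow hcard
  refine ⟨k, hk, hk1, ?_, ?_, hcard, hc, hS⟩
  · rw [← RegKernel.card_add_one hab hU, hcard, ← pow_mul, mul_comm k 2]
  · have := h.hd
    omega

/-- The group has the order of a Suzuki group. -/
theorem isSuzuki [IsSimpleGroup G] (hU2 : IsPGroup 2 U) (hna : ∃ u v : U, u * v ≠ v * u)
    (hcyc : IsCyclic ↥(stabilizer G a ⊓ stabilizer G b)) : Cfsg.IsSuzuki G := by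
  obtain ⟨k, hk, hk1, hn, hd, hcard, -, -⟩ := structure_thm hZ hab hU hU2 hna hcyc
  obtain ⟨m, rfl⟩ := hk
  refine ⟨inferInstance, m, by omega, ?_⟩
  rw [RegKernel.card_group hZ hab hU, hn, hd, hcard, ← pow_mul 2 (2 * m + 1) 2,
    mul_comm (2 * m + 1) 2]
  ring

end Cfsg.Agent.Lib.SuzukiKernel
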