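import Mathlib

/-!
# The arithmetic of the degrees, `|U| = q ^ 3`
-/

set_option autoImplicit false

namespace Cfsg.Agent.Lib.SuzukiKernel.Arith

/-- A divisor `b (q² + q + 1) - q j` of `(q + 1)(q² - q + 1) q³` forces `j = 2 b`. -/
theorem eq_two_mul {q : ℤ} {k : ℕ} (hqk : q = 2 ^ k) (hq : 4 ≤ q) {b j : ℤ} (hb : 1 ≤ b)
    (hb2 : 2 * b ^ 2 < q) (hj2 : j ^ 2 ≤ q)
    (hdvd : b * (q ^ 2 + q + 1) - q * j ∣ (q ^ 3 + 1) * q ^ 3) : j = 2 * b := by
  set δ := b * (q ^ 2 + q + 1) - q * j with hδ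
  have hbq : b < q := by nlinarith
  have hj' : |j| ≤ q - 2 := by
    rcases abs_cases j with ⟨e, -⟩ | ⟨e, -⟩ <;> rw [e] <;> nlinarith
  have hδpos : 0 < δ := by
    have := abs_le.1 hj'
    nlinarith
  -- the part at two
  have hg : (Int.gcd δ (q ^ 3) : ℤ) ∣ b := by
    have h1 : (Int.gcd δ (q ^ 3) : ℤ) ∣ (2 : ℤ) ^ (3 * k) := by
      rw [show (2 : ℤ) ^ (3 * k) = q ^ 3 by rw [hqk, ← pow_mul, mul_comm]]
      exact Int.gcd_dvd_right _ _
    obtain ⟨i, -, hi⟩ := (dvd_prime_pow Int.prime_two _).1 h1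
    have hδb : ∀ g : ℤ, g ∣ q → g ∣ δ → g ∣ b := fun g hgq hgδ => by
      have e : b = δ - q * (b * q + b - j) := by rw [hδ]; ring
      rw [e]; exact dvd_sub hgδ (hgq.trans (dvd_mul_right _ _))
    rcases le_or_gt i k with hik | hik
    · refine hi.dvd.trans (hδb _ ?_ (hi.symm.dvd.trans (Int.gcd_dvd_left _ _)))
      rw [hqk]; exact pow_dvd_pow 2 hik
    · exfalso
      have hqδ : q ∣ δ := by
        refine dvd_trans ?_ (hi.symm.dvd.trans (Int.gcd_dvd_left δ (q ^ 3)))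
        rw [hqk]; exact pow_dvd_pow 2 hik.le
      have := Int.le_of_dvd (by omega) (hδb q dvd_rfl hqδ)
      omega
  have h2 : δ ∣ b * (q ^ 3 + 1) := by
    have e := dvd_gcd_mul_of_dvd_mul (show δ ∣ q ^ 3 * (q ^ 3 + 1) by rwa [mul_comm])
    rw [← Int.coe_gcd] at e
    exact e.trans (mul_dvd_mul_right hg _)
  set P := q + 1 with hP
  set N := q ^ 2 - q + 1 with hN
  have hPN : q ^ 3 + 1 = P * N := by rw [hP, hN]; ring
  rw [hPN] at h2
  by_contra hne
  have hj1 : j ≠ -b := by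
    intro e
    have hd : δ = b * (P * P) := by rw [hδ, hP, e]; ring
    rw [hd] at h2
    have h3 := (mul_dvd_mul_iff_left (show b ≠ 0 by omega)).1 h2
    have h4 := (mul_dvd_mul_iff_left (show P ≠ 0 by omega)).1 h3
    have h5 : P ∣ 3 := by
      have e2 : (3 : ℤ) = N - P * (q - 2) := by rw [hN, hP]; ring
      rw [e2]; exact dvd_sub h4 (dvd_mul_right _ _)
    have := Int.le_of_dvd (by norm_num) h5
    omega
  have h6 : δ ∣ b * ((Int.gcd δ P : ℤ) * (Int.gcd δ N : ℤ)) := by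
    rw [Int.coe_gcd, Int.coe_gcd]
    have hbδ : δ ∣ b * (P * N) := h2
    have e1 : δ ∣ gcd δ b * gcd δ (P * N) := (dvd_mul_gcd_iff_dvd_mul).2
      (dvd_gcd_mul_of_dvd_mul hbδ)
    refine e1.trans (mul_dvd_mul (gcd_dvd_right _ _) (gcd_mul_dvd_mul_gcd _ _ _))
  have hP' : (Int.gcd δ P : ℤ) ∣ b + j := by
    have e : b + j = δ - (b * q - j) * P := by rw [hδ, hP]; ring
    rw [e]
    exact dvd_sub (Int.gcd_dvd_left _ _) ((Int.gcd_dvd_right _ _).trans (dvd_mul_left _ _))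
  have hN' : (Int.gcd δ N : ℤ) ∣ 2 * b - j := by
    have h7 : (Int.gcd δ N : ℤ) ∣ q * (2 * b - j) := by
      have e : q * (2 * b - j) = δ - b * N := by rw [hδ, hN]; ring
      rw [e]
      exact dvd_sub (Int.gcd_dvd_left _ _) ((Int.gcd_dvd_right _ _).trans (dvd_mul_left _ _))
    refine IsCoprime.dvd_of_dvd_mul_left ?_ h7
    refine IsCoprime.of_isCoprime_of_dvd_left (y := N) ?_ (Int.gcd_dvd_right δ N)
    exact ⟨1, 1 - q, by rw [hN]; ring⟩
  have h8 : δ ∣ b * ((b + j) * (2 * b - j)) :=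
    h6.trans (mul_dvd_mul_left b (mul_dvd_mul hP' hN'))
  have hnz : b * ((b + j) * (2 * b - j)) ≠ 0 := by
    refine mul_ne_zero (by omega) (mul_ne_zero ?_ ?_) <;> omega
  have h9 := Int.le_of_dvd (abs_pos.2 hnz) ((dvd_abs _ _).2 h8)
  have h10 : |(b + j) * (2 * b - j)| ≤ 3 * q := by
    rw [abs_le]
    constructor <;> nlinarith [sq_nonneg (b - j), sq_nonneg (b + j)]
  rw [abs_mul, abs_of_pos (show 0 < b by omega)] at h9
  have h11 : δ ≤ b * (3 * q) := h9.trans (mul_le_mul_of_nonneg_left h10 (by omega))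
  have h12 : b * (q ^ 2 + q + 1) - q * j ≥ b * (q ^ 2 + q + 1) - b * (q * (q - 2)) := by
    have := (abs_le.1 hj').2
    have h13 : q * j ≤ b * (q * (q - 2)) :=
      le_trans (mul_le_mul_of_nonneg_left this (by omega))
        (le_mul_of_one_le_left (by nlinarith) hb)
    linarith
  nlinarith

/-- The degrees and values are impossible unless an exceptional character is constant on `U`. -/
theorem core {ι : Type*} [Fintype ι] [DecidableEq ι] {q : ℤ} {k : ℕ} (hqk : q = 2 ^ k)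
    (hq : 4 ≤ q) {ε : ℤ} (hε : ε = 1 ∨ ε = -1) (v b j d s : ι → ℤ) (v₀ b₀ c₀ x y : ℤ)
    (hd : ∀ i, d i = v i + q ^ 3 * b i - q * (q - 1) * j i)
    (hs : ∀ i, s i = v i + q * j i)
    (hx : x = v₀ + q ^ 2 * b₀ + ε * (q - 1) + q * (q - 1) * c₀)
    (hy : y = v₀ + q ^ 2 * b₀ + ε * (q - 1) - q * c₀)
    (hb : ∀ i, 0 ≤ b i) (hb₀ : 0 ≤ b₀) (hxpos : 0 < x)
    (huu : ∑ i, v i ^ 2 + (q + 1) * v₀ ^ 2 - 2 * ε * v₀ + q ^ 2 - (q - 1) = q ^ 2)
    (hzz : ∑ i, s i ^ 2 + (q + 1) * y ^ 2 = q ^ 3)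
    (hu1 : ∑ i, d i * v i + x * ((q + 1) * v₀ - ε) = 0)
    (huz : ∑ i, s i * v i + y * ((q + 1) * v₀ - ε) = 0)
    (hz1 : ∑ i, d i * s i + (q + 1) * (x * y) = 0)
    (h11 : ∑ i, d i ^ 2 + (q + 1) * x ^ 2 = (q ^ 3 + 1) * q ^ 3 * (q - 1))
    (hdvd : ∀ i, d i ∣ (q ^ 3 + 1) * q ^ 3 * (q - 1))
    (i₀ i₁ : ι) (hi₀ : v i₀ = 1 ∧ b i₀ = 0 ∧ j i₀ = 0) (hi₁ : v i₁ = 0 ∧ b i₁ = 1 ∧ j i₁ = 0)
    (P : Finset ι) (hP : ∀ i ∈ P, v i = 1 ∧ b i = 1 ∧ j i = 0) (hPc : 2 * (P.card : ℤ) = q - 2) :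
    v₀ = 0 ∧ x = q - 1 ∧ y = q - 1 := by
  have hεε : ε * ε = 1 := by rcases hε with rfl | rfl <;> norm_num
  have hne01 : i₀ ≠ i₁ := fun e => by rw [e, hi₁.1] at hi₀; exact zero_ne_one hi₀.1
  have h0P : i₀ ∉ P := fun h => by have := (hP _ h).2.1; omega
  have h1P : i₁ ∉ P := fun h => by have := (hP _ h).1; omega
  have hi₀d : d i₀ = 1 ∧ s i₀ = 1 := by rw [hd, hs, hi₀.1, hi₀.2.1, hi₀.2.2]; simp
  -- `v₀ = 0`
  have hv₀ : v₀ = 0 := by
    by_contra h0
    have h1 : (1 : ℤ) ≤ ∑ i, v i ^ 2 := by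
      refine le_trans ?_ (Finset.single_le_sum (fun i _ => sq_nonneg (v i)) (Finset.mem_univ i₀))
      rw [hi₀.1]; norm_num
    rcases lt_or_gt_of_ne h0 with h | h <;> rcases hε with rfl | rfl <;>
      nlinarith [sq_nonneg (v₀ - 1), sq_nonneg (v₀ + 1)]
  subst hv₀
  have Svv : ∑ i, v i ^ 2 = q - 1 := by linear_combination huu
  have hy2 : y ^ 2 < q ^ 2 := by
    have h1 : (1 : ℤ) ≤ ∑ i, s i ^ 2 := by
      refine le_trans ?_ (Finset.single_le_sum (fun i _ => sq_nonneg (s i)) (Finset.mem_univ i₀))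
      rw [hi₀d.2]; norm_num
    nlinarith
  have hyab := abs_lt_of_sq_lt_sq hy2 (by omega)
  rw [abs_lt] at hyab
  set K := q * b₀ - c₀ + ε with hK
  have hyK : y = q * K - ε := by rw [hy, hK]; ring
  have hK01 : K = 0 ∨ K = ε := by
    have hKlo : -1 ≤ K := by
      by_contra h
      have : q * K ≤ q * (-2) := mul_le_mul_of_nonneg_left (by omega) (by omega)
      rcases hε with rfl | rfl <;> omega
    have hKhi : K ≤ 1 := by
      by_contra h
      have : q * 2 ≤ q * K := mul_le_mul_of_nonneg_left (by omega) (by omega)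
      rcases hε with rfl | rfl <;> omega
    have h3 : K = -1 ∨ K = 0 ∨ K = 1 := by omega
    rcases h3 with h | h | h <;> rcases hε with rfl | rfl
    · exfalso; rw [h] at hyK; omega
    · exact Or.inr h
    · exact Or.inl h
    · exact Or.inl h
    · exact Or.inr h
    · exfalso; rw [h] at hyK; omega
  simp only [mul_zero, zero_add, zero_sub] at hu1 huz hx hy
  -- second moments
  have Ssv : ∑ i, s i * v i = ε * y := by linear_combination huz
  have Sdv : ∑ i, d i * v i = ε * x := by linear_combination hu1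
  have Sds : ∑ i, d i * s i = -((q + 1) * (x * y)) := by linear_combination hz1
  have e_sv : ∑ i, s i * v i = ∑ i, v i ^ 2 + q * ∑ i, j i * v i := by
    rw [Finset.mul_sum, ← Finset.sum_add_distrib]
    exact Finset.sum_congr rfl fun i _ => by rw [hs]; ring
  have e_ss : ∑ i, s i ^ 2 = ∑ i, v i ^ 2 + 2 * q * ∑ i, j i * v i + q ^ 2 * ∑ i, j i ^ 2 := by
    rw [Finset.mul_sum, Finset.mul_sum, ← Finset.sum_add_distrib, ← Finset.sum_add_distrib]
    exact Finset.sum_congr rfl fun i _ => by rw [hs]; ring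
  have e_dv : ∑ i, d i * v i = ∑ i, v i ^ 2 + q ^ 3 * ∑ i, b i * v i -
      q * (q - 1) * ∑ i, j i * v i := by
    rw [Finset.mul_sum, Finset.mul_sum, ← Finset.sum_add_distrib, ← Finset.sum_sub_distrib]
    exact Finset.sum_congr rfl fun i _ => by rw [hd]; ring
  have e_ds : ∑ i, d i * s i = ∑ i, d i * v i + q * (∑ i, j i * v i +
      q ^ 3 * ∑ i, b i * j i - q * (q - 1) * ∑ i, j i ^ 2) := by
    rw [mul_sub, mul_add, Finset.mul_sum, Finset.mul_sum, Finset.mul_sum, Finset.mul_sum,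
      Finset.mul_sum, ← Finset.sum_add_distrib, ← Finset.sum_sub_distrib, ← Finset.sum_add_distrib]
    exact Finset.sum_congr rfl fun i _ => by rw [hs, hd]; ring
  have e_dd : ∑ i, d i ^ 2 = ∑ i, v i ^ 2 + q ^ 2 * (q - 1) ^ 2 * ∑ i, j i ^ 2 +
      q ^ 6 * ∑ i, b i ^ 2 + 2 * q ^ 3 * ∑ i, b i * v i - 2 * q * (q - 1) * ∑ i, j i * v i -
      2 * q ^ 4 * (q - 1) * ∑ i, b i * j i := by
    simp only [Finset.mul_sum, ← Finset.sum_add_distrib, ← Finset.sum_sub_distrib]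
    exact Finset.sum_congr rfl fun i _ => by rw [hd]; ring
  rcases hK01 with hK0 | hKε
  swap
  · -- the exceptional characters are constant on the centre
    have hc : c₀ = q * b₀ := by omega
    have hyv : y = ε * (q - 1) := by rw [hy, hc]; ring
    have hxv : x = ε * (q - 1) + q ^ 3 * b₀ := by rw [hx, hc]; ring
    have hq0 : q ≠ 0 := by omega
    have Sjv : ∑ i, j i * v i = 0 := by
      refine mul_left_cancel₀ hq0 ?_
      linear_combination (Ssv.symm.trans e_sv).symm + Svv * (-1) + hyv * ε + (q - 1) * hεε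
    have Sjj : ∑ i, j i ^ 2 = 1 := by
      refine mul_left_cancel₀ (pow_ne_zero 2 hq0) ?_
      linear_combination hzz - e_ss - Svv - 2 * q * Sjv -
        (q + 1) * (y + ε * (q - 1)) * hyv - (q + 1) * (q - 1) ^ 2 * hεε
    have Sbv : ∑ i, b i * v i = ε * b₀ := by
      refine mul_left_cancel₀ (pow_ne_zero 3 hq0) ?_
      linear_combination Sdv - e_dv - Svv + q * (q - 1) * Sjv + ε * hxv + (q - 1) * hεε
    have Sbj : ∑ i, b i * j i = -(ε * q * b₀) := by
      refine mul_left_cancel₀ (pow_ne_zero 4 hq0) ?_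
      linear_combination Sds - e_ds - Sdv - q * Sjv + q ^ 2 * (q - 1) * Sjj -
        (q + 1) * x * hyv - (ε * q ^ 2) * hxv - q ^ 2 * (q - 1) * hεε
    have hb0 : b₀ = 0 := by
      by_contra hne
      have hb1 : 1 ≤ b₀ := by omega
      have hcs := Finset.sum_mul_sq_le_sq_mul_sq Finset.univ b j
      rw [Sjj, mul_one, Sbj, neg_sq, mul_pow, mul_pow, sq ε, hεε, one_mul] at hcs
      rw [Svv, Sjj, Sjv, Sbv, Sbj] at e_dd
      have hdd : ∑ i, d i ^ 2 ≤ (q ^ 3 + 1) * q ^ 3 * (q - 1) := by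
        nlinarith [sq_nonneg x]
      have hq8 : q ^ 6 * (q ^ 2 * b₀ ^ 2) ≤ q ^ 6 * ∑ i, b i ^ 2 :=
        mul_le_mul_of_nonneg_left hcs (by positivity)
      have hbb : b₀ ≤ b₀ ^ 2 := by nlinarith
      have hq5 : q ^ 5 ≤ q ^ 6 := pow_le_pow_right₀ (by omega) (by norm_num)
      have hq3 : q ^ 3 ≤ q ^ 6 := pow_le_pow_right₀ (by omega) (by norm_num)
      have hq4 : q ^ 4 ≤ q ^ 6 := pow_le_pow_right₀ (by omega) (by norm_num)
      rcases hε with rfl | rfl <;>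
        nlinarith [mul_le_mul_of_nonneg_left hbb (pow_nonneg (show (0:ℤ) ≤ q by omega) 6),
          mul_le_mul_of_nonneg_left hq (pow_nonneg (show (0:ℤ) ≤ q by omega) 6),
          mul_le_mul_of_nonneg_left hq (pow_nonneg (show (0:ℤ) ≤ q by omega) 7)]
    rw [hb0, mul_zero, add_zero] at hxv
    rcases hε with rfl | rfl
    · exact ⟨rfl, by linarith, by linarith⟩
    · linarith
  · exfalso
    have hyv : y = -ε := by rw [hyK, hK0]; ring
    have hc : c₀ = q * b₀ + ε := by omega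
    have hxv : x = ε * (q ^ 2 - 1) + q ^ 3 * b₀ := by rw [hx, hc]; ring
    have hq0 : q ≠ 0 := by omega
    have hb0 : b₀ = 0 := by
      by_contra hne
      have hxlo : q ^ 3 - q ^ 2 ≤ x := by
        have h3 : q ^ 3 * 1 ≤ q ^ 3 * b₀ :=
          mul_le_mul_of_nonneg_left (by omega) (pow_nonneg (by omega) 3)
        have h4 : 1 ≤ q ^ 2 := one_le_pow₀ (by omega)
        rcases hε with rfl | rfl <;> linarith
      have hx2 : (q ^ 3 - q ^ 2) ^ 2 ≤ x ^ 2 := pow_le_pow_left₀ (by nlinarith) hxlo 2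
      have hPd : (P.card : ℤ) * (q ^ 6) ≤ ∑ i, d i ^ 2 := by
        refine le_trans ?_ (Finset.sum_le_sum_of_subset_of_nonneg (Finset.subset_univ P)
          fun i _ _ => sq_nonneg _)
        refine le_trans (le_of_eq ?_) (Finset.sum_le_sum (f := fun _ => q ^ 6) fun i hi => ?_)
        · simp
        · rw [hd, (hP i hi).1, (hP i hi).2.1, (hP i hi).2.2]
          nlinarith [pow_nonneg (show (0:ℤ) ≤ q by omega) 3]
      nlinarith [pow_nonneg (show (0:ℤ) ≤ q by omega) 5,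
        mul_le_mul_of_nonneg_left hq (pow_nonneg (show (0:ℤ) ≤ q by omega) 5),
        mul_le_mul_of_nonneg_left hq (pow_nonneg (show (0:ℤ) ≤ q by omega) 6)]
    rw [hb0, mul_zero, add_zero] at hxv
    obtain rfl : ε = 1 := by
      rcases hε with rfl | rfl
      · rfl
      · nlinarith
    have Sjv : ∑ i, j i * v i = -1 := by
      refine mul_left_cancel₀ hq0 ?_
      linear_combination Ssv - e_sv - Svv + hyv
    have Sjj : ∑ i, j i ^ 2 = q := by
      refine mul_left_cancel₀ (pow_ne_zero 2 hq0) ?_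
      linear_combination hzz - e_ss - Svv - 2 * q * Sjv - (q + 1) * (y - 1) * hyv
    have Sbv : ∑ i, b i * v i = 0 := by
      refine mul_left_cancel₀ (pow_ne_zero 3 hq0) ?_
      linear_combination Sdv - e_dv - Svv + q * (q - 1) * Sjv + hxv
    have Sbj : ∑ i, b i * j i = 1 := by
      refine mul_left_cancel₀ (pow_ne_zero 4 hq0) ?_
      linear_combination Sds - e_ds - Sdv - q * Sjv + q ^ 2 * (q - 1) * Sjj -
        (q + 1) * x * hyv + q * hxv
    have Sbb : ∑ i, b i ^ 2 = q - 1 := by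
      refine mul_left_cancel₀ (pow_ne_zero 6 hq0) ?_
      linear_combination h11 - e_dd - Svv - q ^ 2 * (q - 1) ^ 2 * Sjj - 2 * q ^ 3 * Sbv +
        2 * q * (q - 1) * Sjv + 2 * q ^ 4 * (q - 1) * Sbj - (q + 1) * (x + q ^ 2 - 1) * hxv
    set T := ((Finset.univ.erase i₀).erase i₁) \ P with hT
    have hsum : ∀ f : ι → ℤ,
        ∑ i, f i = f i₀ + f i₁ + ∑ i ∈ P, f i + ∑ i ∈ T, f i := by
      intro f
      rw [← Finset.add_sum_erase _ f (Finset.mem_univ i₀),
        ← Finset.add_sum_erase _ f (Finset.mem_erase.2 ⟨hne01.symm, Finset.mem_univ i₁⟩),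
        ← Finset.sum_sdiff (f := f) (show P ⊆ (Finset.univ.erase i₀).erase i₁ from fun i hi =>
          Finset.mem_erase.2 ⟨fun e => h1P (e ▸ hi), Finset.mem_erase.2
            ⟨fun e => h0P (e ▸ hi), Finset.mem_univ _⟩⟩)]
      ring
    have hPs : ∀ (f : ι → ℤ) (c : ℤ), (∀ i ∈ P, f i = c) → ∑ i ∈ P, f i = (P.card : ℤ) * c :=
      fun f c h => by rw [Finset.sum_congr rfl h, Finset.sum_const, nsmul_eq_mul]
    have Tvv := hsum fun i => v i ^ 2
    rw [Svv, hPs _ 1 fun i hi => by rw [(hP i hi).1]; ring, hi₀.1, hi₁.1] at Tvv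
    have Tbb := hsum fun i => b i ^ 2
    rw [Sbb, hPs _ 1 fun i hi => by rw [(hP i hi).2.1]; ring, hi₀.2.1, hi₁.2.1] at Tbb
    have Tbv := hsum fun i => b i * v i
    rw [Sbv, hPs _ 1 fun i hi => by rw [(hP i hi).1, (hP i hi).2.1]; ring, hi₀.2.1, hi₁.1] at Tbv
    have Tbj := hsum fun i => b i * j i
    rw [Sbj, hPs _ 0 fun i hi => by rw [(hP i hi).2.2]; ring, hi₀.2.2, hi₁.2.2] at Tbj
    have Tzero : ∑ i ∈ T, (v i + b i) ^ 2 = 0 := by
      have e : ∑ i ∈ T, (v i + b i) ^ 2 =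
          ∑ i ∈ T, v i ^ 2 + 2 * ∑ i ∈ T, b i * v i + ∑ i ∈ T, b i ^ 2 := by
        rw [Finset.mul_sum, ← Finset.sum_add_distrib, ← Finset.sum_add_distrib]
        exact Finset.sum_congr rfl fun i _ => by ring
      linear_combination e - Tvv - 2 * Tbv - Tbb - 2 * hPc
    have hvb : ∀ i ∈ T, v i = -(b i) := fun i hi => by
      have := (Finset.sum_eq_zero_iff_of_nonneg fun i _ => sq_nonneg (v i + b i)).1 Tzero i hi
      have := sq_eq_zero_iff.1 this
      omega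
    have hall : ∀ i ∈ T, b i * j i = 2 * b i ^ 2 := by
      intro i hi
      rcases (hb i).eq_or_lt with hb1 | hb1
      · rw [← hb1]; ring
      have hj2 : j i ^ 2 ≤ q := Sjj ▸ Finset.single_le_sum
        (fun i _ => sq_nonneg (j i)) (Finset.mem_univ i)
      have hb2 : 2 * b i ^ 2 < q := by
        have h := Finset.single_le_sum (f := fun i => b i ^ 2) (fun i _ => sq_nonneg (b i)) hi
        linarith
      have hdi : d i = (q - 1) * (b i * (q ^ 2 + q + 1) - q * j i) := by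
        rw [hd, hvb i hi]; ring
      have hδ := hdvd i
      rw [hdi, mul_comm ((q ^ 3 + 1) * q ^ 3)] at hδ
      rw [eq_two_mul hqk hq hb1 hb2 hj2 ((mul_dvd_mul_iff_left (by omega)).1 hδ)]
      ring
    rw [Finset.sum_congr rfl hall, ← Finset.mul_sum] at Tbj
    omega

end Cfsg.Agent.Lib.SuzukiKernel.Arith
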