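import Cfsg.Agent.Lib.SuzukiKernel.Setup

/-!
# The commutator form of the kernel is nondegenerate
-/

set_option autoImplicit false
set_option linter.unusedSectionVars false

namespace Cfsg.Agent.Lib.SuzukiKernel

open MulAction
open Cfsg.Agent.Lib.Zassenhaus
open scoped commutatorElement

universe u v

variable {G : Type u} {Ω : Type v} [Group G] [MulAction G Ω] [Finite Ω] {a b : Ω} {U : Subgroup G}
  {q : ℕ}

/-- The centre of the kernel, as a subgroup of `G`. -/
def zSub (U : Subgroup G) : Subgroup G := (Subgroup.center U).map U.subtype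

namespace Suz

variable (h : Suz a b U q)
include h

theorem finite : Finite G := finite_group h.hZG

theorem mem_zSub {z : G} : z ∈ zSub U ↔ z ∈ U ∧ z * z = 1 := by
  constructor
  · rintro ⟨w, hw, rfl⟩
    exact ⟨w.2, h.isInvOfCentral w w.2 fun u hu =>
      congrArg Subtype.val (Subgroup.mem_center_iff.1 hw ⟨u, hu⟩)⟩
  · rintro ⟨hz, hz2⟩
    exact ⟨⟨z, hz⟩, Subgroup.mem_center_iff.2 fun u => Subtype.ext (h.cen z hz hz2 u u.2), rfl⟩

theorem zSub_le : zSub U ≤ U := fun _ hz => (h.mem_zSub.1 hz).1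

theorem card_zSub : Nat.card (zSub U) = q := by
  rw [← h.cardZ]
  exact Nat.card_congr (Equiv.subtypeEquivRight fun z => h.mem_zSub)

theorem sq_mem {u : G} (hu : u ∈ U) : u * u ∈ zSub U :=
  h.mem_zSub.2 ⟨mul_mem hu hu, h.sq u hu⟩

theorem comm_mem {u v : G} (hu : u ∈ U) (hv : v ∈ U) : ⁅u, v⁆ ∈ zSub U := by
  refine h.mem_zSub.2 ⟨?_, h.comm u hu v hv⟩
  rw [commutatorElement_def]
  exact mul_mem (mul_mem (mul_mem hu hv) (inv_mem hu)) (inv_mem hv)

theorem z_comm {z u : G} (hz : z ∈ zSub U) (hu : u ∈ U) : u * z = z * u :=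
  h.cen z (h.mem_zSub.1 hz).1 (h.mem_zSub.1 hz).2 u hu

theorem four_le : 4 ≤ q := by
  obtain ⟨k, hk, rfl⟩ := h.hq
  calc 4 = 2 ^ 2 := by norm_num
    _ ≤ 2 ^ k := Nat.pow_le_pow_right (by norm_num) hk

theorem comm_mul_right {u v w : G} (hu : u ∈ U) (hv : v ∈ U) (hw : w ∈ U) :
    ⁅u, v * w⁆ = ⁅u, v⁆ * ⁅u, w⁆ := by
  have hc := h.z_comm (h.comm_mem hu hw) hv
  calc ⁅u, v * w⁆ = ⁅u, v⁆ * (v * ⁅u, w⁆ * v⁻¹) := by simp only [commutatorElement_def]; group
    _ = _ := by rw [hc, mul_inv_cancel_right]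

theorem comm_mul_left {u v w : G} (hu : u ∈ U) (hv : v ∈ U) (hw : w ∈ U) :
    ⁅u * v, w⁆ = ⁅u, w⁆ * ⁅v, w⁆ := by
  have hc := h.z_comm (h.comm_mem hv hw) hu
  calc ⁅u * v, w⁆ = (u * ⁅v, w⁆ * u⁻¹) * ⁅u, w⁆ := by simp only [commutatorElement_def]; group
    _ = ⁅v, w⁆ * ⁅u, w⁆ := by rw [hc, mul_inv_cancel_right]
    _ = _ := by
      refine (h.z_comm (h.comm_mem hv hw) ?_).symm
      exact (h.mem_zSub.1 (h.comm_mem hu hw)).1

theorem mul_sq {u v : G} (hu : u ∈ U) (hv : v ∈ U) :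
    u * v * (u * v) = u * u * (v * v) * ⁅v, u⁆ := by
  have hw := h.comm_mem hv hu
  calc u * v * (u * v) = u * (⁅v, u⁆ * (u * v)) * v := by simp only [commutatorElement_def]; group
    _ = u * ((u * v) * ⁅v, u⁆) * v := by rw [h.z_comm hw (mul_mem hu hv)]
    _ = u * (u * v * (⁅v, u⁆ * v)) := by group
    _ = u * (u * v * (v * ⁅v, u⁆)) := by rw [h.z_comm hw hv]
    _ = _ := by group

/-- Conjugating an involution of the kernel onto another. -/
theorem conj_invol {z w : G} (hz : z ∈ zSub U) (hz1 : z ≠ 1) (hw : w ∈ zSub U) (hw1 : w ≠ 1) :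
    ∃ δ : G, δ ∈ stabilizer G a ⊓ stabilizer G b ∧ δ * z * δ⁻¹ = w := by
  have := h.finite
  obtain ⟨hzU, hz2⟩ := h.mem_zSub.1 hz
  obtain ⟨hwU, hw2⟩ := h.mem_zSub.1 hw
  obtain ⟨g, hg⟩ := isConj_iff.1 (h.conjI z w hz2 hz1 hw2 hw1)
  have hga : g • a = a := by
    by_contra hga
    refine hw1 (RegKernel.free h.hab h.hU hwU hga ?_)
    rw [← hg, mul_smul, mul_smul, inv_smul_smul, mem_stabilizer_iff.1 (h.hU.le hzU)]
  obtain ⟨u, hu, hδ⟩ := RegKernel.decomp h.hab h.hU hga
  refine ⟨u⁻¹ * g, hδ, ?_⟩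
  calc u⁻¹ * g * z * (u⁻¹ * g)⁻¹ = u⁻¹ * ((g * z * g⁻¹) * u) := by group
    _ = w := by rw [hg, ← h.z_comm hw hu, inv_mul_cancel_left]

/-- Commutation with an element outside the centre is onto the centre. -/
theorem comm_surj (hcard : Nat.card U = q ^ 3) {u : G} (hu : u ∈ U) (hu' : u ∉ zSub U)
    {z : G} (hz : z ∈ zSub U) : ∃ v ∈ U, ⁅v, u⁆ = z := by
  classical
  have := h.finite
  have := Fintype.ofFinite G
  set Z := zSub U with hZdef
  letI : CommGroup Z :=
    { (inferInstance : Group Z) with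
      mul_comm := fun x y => Subtype.ext (h.z_comm y.2 (h.zSub_le x.2)) }
  let θ : U →* Z :=
    { toFun := fun v => ⟨⁅(v : G), u⁆, h.comm_mem v.2 hu⟩
      map_one' := Subtype.ext (by simp [commutatorElement_def])
      map_mul' := fun v w => Subtype.ext (by
        show ⁅(v : G) * w, u⁆ = _
        rw [h.comm_mul_left v.2 w.2 hu]; rfl) }
  by_contra hne
  push Not at hne
  have hW : (θ.range : Subgroup Z) ≠ ⊤ := fun e => by
    obtain ⟨v, hv⟩ := (e ▸ Subgroup.mem_top (⟨z, hz⟩ : Z) : (⟨z, hz⟩ : Z) ∈ θ.range)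
    exact hne v v.2 (congrArg Subtype.val hv)
  haveI : Nontrivial (Z ⧸ θ.range) := by
    obtain ⟨w, hw⟩ : ∃ w : Z, w ∉ θ.range := by
      by_contra! e
      exact hW ((Subgroup.eq_top_iff' _).2 e)
    exact ⟨⟨QuotientGroup.mk w, 1, fun e => hw ((QuotientGroup.eq_one_iff _).1 e)⟩⟩
  obtain ⟨x, hx⟩ := exists_ne (1 : Z ⧸ θ.range)
  obtain ⟨μ, hμ⟩ :=
    CommGroup.exists_apply_ne_one_of_hasEnoughRootsOfUnity (Z ⧸ θ.range) ℂ hx
  let lam : Z →* ℂˣ := μ.comp (QuotientGroup.mk' θ.range)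
  have hlamW : ∀ v ∈ U, ∀ hm : ⁅v, u⁆ ∈ Z, lam ⟨⁅v, u⁆, hm⟩ = 1 := fun v hv hm => by
    simp only [lam, MonoidHom.comp_apply, QuotientGroup.mk'_apply]
    rw [(QuotientGroup.eq_one_iff _).2 (show (⟨⁅v, u⁆, hm⟩ : Z) ∈ θ.range from ⟨⟨v, hv⟩, rfl⟩),
      map_one]
  obtain ⟨z₁, hz₁⟩ : ∃ z₁ : Z, lam z₁ ≠ 1 := by
    obtain ⟨x, rfl⟩ := QuotientGroup.mk_surjective x
    exact ⟨x, hμ⟩
  -- the quadratic character
  let s : U → ℂ := fun v => (lam ⟨(v : G) * v, h.sq_mem v.2⟩ : ℂ)
  let β : U → U → ℂ := fun v w => (lam ⟨⁅(v : G), (w : G)⁆, h.comm_mem v.2 w.2⟩ : ℂ)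
  have hsmul : ∀ v w : U, s (v * w) = s v * s w * β w v := by
    intro v w
    simp only [s, β, ← Units.val_mul, ← map_mul]
    congr 2
    exact Subtype.ext (h.mul_sq v.2 w.2)
  have hsq : ∀ v : U, s v * s v = 1 := by
    intro v
    simp only [s, ← Units.val_mul, ← map_mul]
    rw [show (⟨(v : G) * v, h.sq_mem v.2⟩ : Z) * ⟨(v : G) * v, h.sq_mem v.2⟩ = 1 from
      Subtype.ext (h.sq v v.2), map_one, Units.val_one]
  have hβmul : ∀ x v w : U, β x (v * w) = β x v * β x w := by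
    intro x v w
    simp only [β, ← Units.val_mul, ← map_mul]
    congr 2
    exact Subtype.ext (h.comm_mul_right x.2 v.2 w.2)
  have hβinv : ∀ v w : U, β w v = (β v w)⁻¹ := by
    intro v w
    simp only [β, ← Units.val_inv_eq_inv_val, ← map_inv]
    congr 2
    exact Subtype.ext (commutatorElement_inv (v : G) w).symm
  -- the fibres of squaring
  have hfib : ∀ w₁ w₂ : Z, w₁ ≠ 1 → w₂ ≠ 1 →
      Nat.card {v : U // (v : G) * v = w₁} = Nat.card {v : U // (v : G) * v = w₂} := by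
    intro w₁ w₂ h1 h2
    obtain ⟨δ, hδ, hδw⟩ := h.conj_invol w₁.2 (fun e => h1 (Subtype.ext e)) w₂.2
      (fun e => h2 (Subtype.ext e))
    have hm : ∀ v : G, δ * v * δ⁻¹ ∈ U ↔ v ∈ U := fun v => by
      refine ⟨fun hv => ?_, h.hU.conj δ hδ.1 v⟩
      simpa [mul_assoc] using h.hU.conj δ⁻¹ (mem_stabilizer_iff.1 (inv_mem hδ.1)) _ hv
    refine Nat.card_congr (Equiv.subtypeEquiv
      ((MulAut.conj δ).toEquiv.subtypeEquiv fun v => (hm v).symm) fun v => ?_)
    show (v : G) * v = w₁ ↔ δ * v * δ⁻¹ * (δ * v * δ⁻¹) = w₂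
    rw [← hδw, show δ * (v : G) * δ⁻¹ * (δ * v * δ⁻¹) = δ * ((v : G) * v) * δ⁻¹ by group]
    exact ⟨fun e => by rw [e], fun e => mul_left_cancel (mul_right_cancel e)⟩
  have hT : ∑ v : U, s v = -((q : ℂ) ^ 2) := by
    let m : Z → ℕ := fun w => Nat.card {v : U // (v : G) * v = w}
    have hfibsum : ∀ g : Z → ℂ,
        ∑ v : U, g ⟨(v : G) * v, h.sq_mem v.2⟩ = ∑ w : Z, (m w : ℂ) * g w := by
      intro g
      rw [← Finset.sum_fiberwise Finset.univ (fun v : U => (⟨(v : G) * v, h.sq_mem v.2⟩ : Z))]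
      refine Finset.sum_congr rfl fun w _ => ?_
      rw [Finset.sum_congr rfl (g := fun _ => g w) fun v hv => by rw [(Finset.mem_filter.1 hv).2],
        Finset.sum_const, nsmul_eq_mul]
      simp only [m, Nat.card_eq_fintype_card, Fintype.card_subtype]
      congr 3
      ext v
      simp [Subtype.ext_iff]
    have hm1 : m 1 = q := by
      rw [← h.card_zSub]
      refine Nat.card_congr
        { toFun := fun v => ⟨v.1.1, h.mem_zSub.2 ⟨v.1.2, v.2⟩⟩
          invFun := fun w => ⟨⟨w.1, h.zSub_le w.2⟩, (h.mem_zSub.1 w.2).2⟩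
          left_inv := fun _ => rfl
          right_inv := fun _ => rfl }
    have hcZ : (Finset.univ : Finset Z).card = q := by
      rw [Finset.card_univ, ← Nat.card_eq_fintype_card]; exact h.card_zSub
    obtain ⟨w₀, hw₀⟩ : ∃ w₀ : Z, w₀ ≠ 1 := ⟨z₁, fun e => hz₁ (by rw [e, map_one])⟩
    have hmc : ∀ w : Z, w ≠ 1 → m w = m w₀ := fun w hw => hfib w w₀ hw hw₀
    have hsum : ∀ g : Z → ℂ, ∑ w : Z, (m w : ℂ) * g w =
        ((q : ℂ) - m w₀) * g 1 + m w₀ * ∑ w : Z, g w := by
      intro g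
      rw [← Finset.add_sum_erase _ _ (Finset.mem_univ (1 : Z)),
        ← Finset.add_sum_erase _ g (Finset.mem_univ (1 : Z)), hm1,
        Finset.sum_congr rfl (g := fun w => (m w₀ : ℂ) * g w) fun w hw => by
          rw [hmc w (Finset.ne_of_mem_erase hw)], ← Finset.mul_sum]
      ring
    have hlamsum : ∑ w : Z, (lam w : ℂ) = 0 := by
      have e : (lam z₁ : ℂ) * ∑ w : Z, (lam w : ℂ) = 1 * ∑ w : Z, (lam w : ℂ) := by
        rw [Finset.mul_sum, one_mul]
        exact Fintype.sum_equiv (Equiv.mulLeft z₁) _ _ fun w => by simp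
      by_contra h0
      exact hz₁ (Units.ext (mul_right_cancel₀ h0 e))
    have e1 := (hfibsum fun _ => 1).trans (hsum _)
    have e2 := (hfibsum fun w => (lam w : ℂ)).trans (hsum _)
    rw [hlamsum, map_one, Units.val_one, mul_zero, add_zero, mul_one] at e2
    simp only [Finset.sum_const, hcZ, nsmul_eq_mul, mul_one, Finset.card_univ,
      ← Nat.card_eq_fintype_card, hcard] at e1
    push_cast at e1
    show ∑ v : U, s v = _
    rw [show (∑ v : U, s v) = (q : ℂ) - m w₀ from e2]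
    have hq1 : (q : ℂ) - 1 ≠ 0 := sub_ne_zero.2 (by have := h.four_le; norm_cast; omega)
    refine mul_left_cancel₀ hq1 ?_
    linear_combination e1
  -- the radical
  let R := Finset.univ.filter fun x : U => ∀ v : U, β x v = 1
  have hβ0 : ∀ x : U, x ∉ R → ∑ v : U, β x v = 0 := by
    intro x hx
    obtain ⟨v₀, hv₀⟩ : ∃ v₀ : U, β x v₀ ≠ 1 := by simpa [R] using hx
    have e : β x v₀ * ∑ v : U, β x v = 1 * ∑ v : U, β x v := by
      rw [Finset.mul_sum, one_mul]
      exact Fintype.sum_equiv (Equiv.mulLeft v₀) _ _ fun v => by simp [hβmul]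
    by_contra h0
    exact hv₀ (mul_right_cancel₀ h0 e)
  have hRs : ∑ x ∈ R, s x = (q : ℂ) := by
    have h1 : (∑ v : U, s v) * ∑ v : U, s v = ∑ x : U, s x * ∑ v : U, β x v := by
      rw [Finset.sum_mul]
      simp only [Finset.mul_sum]
      conv_rhs => rw [Finset.sum_comm]
      refine Finset.sum_congr rfl fun v _ => ?_
      refine (Fintype.sum_equiv (Equiv.mulLeft v) _ _ fun x => ?_).symm
      show s x * β x v = s v * s (v * x)
      rw [hsmul, show s v * (s v * s x * β x v) = s v * s v * (s x * β x v) by ring, hsq, one_mul]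
    rw [hT, ← Finset.sum_subset (Finset.subset_univ R) fun x _ hx => by rw [hβ0 x hx, mul_zero],
      Finset.sum_congr rfl (g := fun x => s x * (q : ℂ) ^ 3) fun x hx => by
        rw [Finset.sum_congr rfl fun v _ => (Finset.mem_filter.1 hx).2 v, Finset.sum_const,
          Finset.card_univ, ← Nat.card_eq_fintype_card, hcard, nsmul_one, Nat.cast_pow],
      ← Finset.sum_mul] at h1
    have hq0 : (q : ℂ) ≠ 0 := Nat.cast_ne_zero.2 (by have := h.four_le; omega)
    refine mul_right_cancel₀ (pow_ne_zero 3 hq0) ?_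
    rw [← h1]; ring
  have hR1 : ∀ x ∈ R, s x = 1 := by
    intro x₀ hx₀
    by_contra hne1
    have hRmul : ∀ {x y : U}, x ∈ R → y ∈ R → x * y ∈ R := by
      intro x y hx hy
      simp only [R, Finset.mem_filter, Finset.mem_univ, true_and] at hx hy ⊢
      intro v
      rw [hβinv, hβmul, hβinv x v, hβinv y v, hx, hy]
      simp
    have hRinv : ∀ {x : U}, x ∈ R → x⁻¹ ∈ R := by
      intro x hx
      simp only [R, Finset.mem_filter, Finset.mem_univ, true_and] at hx ⊢
      intro v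
      have e := hβmul v x⁻¹ x
      rw [inv_mul_cancel, hβinv x v, hx, inv_one, mul_one] at e
      rw [hβinv, ← e]
      have e' := hβmul v 1 1
      rw [one_mul] at e'
      rw [show β v 1 = 1 from (mul_eq_left₀ (by simp [β])).1 e'.symm, inv_one]
    have e : s x₀ * ∑ x ∈ R, s x = 1 * ∑ x ∈ R, s x := by
      rw [Finset.mul_sum, one_mul]
      refine Finset.sum_bij' (fun x _ => x₀ * x) (fun x _ => x₀⁻¹ * x) (fun x hx => hRmul hx₀ hx)
        (fun x hx => hRmul (hRinv hx₀) hx) (fun x _ => inv_mul_cancel_left x₀ x)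
        (fun x _ => mul_inv_cancel_left x₀ x) fun x hx => ?_
      have hb : β x x₀ = 1 := (Finset.mem_filter.1 hx).2 x₀
      rw [hsmul, hb, mul_one]
    rw [hRs] at e
    exact hne1 (mul_right_cancel₀ (Nat.cast_ne_zero.2 (by have := h.four_le; omega)) e)
  have hRcard : R.card = q := by
    have e := hRs
    rw [Finset.sum_congr rfl hR1, Finset.sum_const, nsmul_one] at e
    exact_mod_cast e
  have hZR : (Finset.univ.filter fun x : U => (x : G) ∈ Z) ⊆ R := by
    intro x hx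
    refine Finset.mem_filter.2 ⟨Finset.mem_univ _, fun v => ?_⟩
    have hx' := (Finset.mem_filter.1 hx).2
    simp only [β]
    rw [show (⟨⁅(x : G), (v : G)⁆, h.comm_mem x.2 v.2⟩ : Z) = 1 from Subtype.ext (by
      show ⁅(x : G), (v : G)⁆ = 1
      rw [commutatorElement_eq_one_iff_mul_comm]; exact (h.z_comm hx' v.2).symm), map_one,
      Units.val_one]
  have hZcard : (Finset.univ.filter fun x : U => (x : G) ∈ Z).card = q := by
    rw [← h.card_zSub, ← Fintype.card_subtype, ← Nat.card_eq_fintype_card]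
    exact Nat.card_congr
      { toFun := fun x => ⟨x.1.1, x.2⟩
        invFun := fun w => ⟨⟨w.1, h.zSub_le w.2⟩, w.2⟩
        left_inv := fun _ => rfl
        right_inv := fun _ => rfl }
  have huR : (⟨u, hu⟩ : U) ∈ R := by
    refine Finset.mem_filter.2 ⟨Finset.mem_univ _, fun v => ?_⟩
    rw [hβinv]
    simp only [β]
    rw [hlamW v v.2 _, Units.val_one, inv_one]
  rw [← Finset.eq_of_subset_of_card_le hZR (by rw [hRcard, hZcard])] at huR
  exact hu' (Finset.mem_filter.1 huR).2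

/-- Cosets of the centre outside the centre are classes of the kernel. -/
theorem exists_conj_coset (hcard : Nat.card U = q ^ 3) {u : G} (hu : u ∈ U) (hu' : u ∉ zSub U)
    {z : G} (hz : z ∈ zSub U) : ∃ v ∈ U, v * u * v⁻¹ = z * u := by
  obtain ⟨v, hv, e⟩ := h.comm_surj hcard hu hu' hz
  exact ⟨v, hv, by rw [← e]; simp only [commutatorElement_def]; group⟩

/-- Centralisers of elements outside the centre. -/
theorem card_centralizer (hcard : Nat.card U = q ^ 3) {u : G} (hu : u ∈ U) (hu' : u ∉ zSub U) :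
    Nat.card (Subgroup.centralizer ({u} : Set G)) = q ^ 2 := by
  classical
  have := h.finite
  let θ : U →* zSub U :=
    { toFun := fun v => ⟨⁅(v : G), u⁆, h.comm_mem v.2 hu⟩
      map_one' := Subtype.ext (by simp [commutatorElement_def])
      map_mul' := fun v w => Subtype.ext (by
        show ⁅(v : G) * w, u⁆ = _
        rw [h.comm_mul_left v.2 w.2 hu]; rfl) }
  have hsurj : Function.Surjective θ := fun z => by
    obtain ⟨v, hv, e⟩ := h.comm_surj hcard hu hu' z.2
    exact ⟨⟨v, hv⟩, Subtype.ext e⟩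
  have e1 := θ.ker.card_mul_index
  rw [Subgroup.index_ker, MonoidHom.range_eq_top.2 hsurj, Subgroup.card_top, h.card_zSub, hcard,
    pow_succ] at e1
  rw [← Nat.eq_of_mul_eq_mul_right (by have := h.four_le; omega) e1]
  have hu1 : u ≠ 1 := fun e => hu' (e ▸ one_mem _)
  have hle := RegKernel.centralizer_le h.hZG h.hab h.hU u hu hu1
  exact Nat.card_congr
    { toFun := fun v => ⟨⟨v.1, hle v.2⟩, Subtype.ext (commutatorElement_eq_one_iff_mul_comm.2
        (Subgroup.mem_centralizer_singleton_iff.1 v.2))⟩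
      invFun := fun v => ⟨v.1.1, Subgroup.mem_centralizer_singleton_iff.2
        (commutatorElement_eq_one_iff_mul_comm.1 (congrArg Subtype.val v.2))⟩
      left_inv := fun _ => rfl
      right_inv := fun _ => rfl }

/-- Centralisers of involutions of the kernel. -/
theorem centralizer_invol {z : G} (hz : z ∈ zSub U) (hz1 : z ≠ 1) :
    Subgroup.centralizer ({z} : Set G) = U :=
  le_antisymm (RegKernel.centralizer_le h.hZG h.hab h.hU z (h.zSub_le hz) hz1) fun _ hu =>
    Subgroup.mem_centralizer_singleton_iff.2 (h.z_comm hz hu)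

end Suz

end Cfsg.Agent.Lib.SuzukiKernel
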