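import Cfsg.Agent.Lib.Zassenhaus.KernelCases
import Cfsg.Agent.Lib.Suzuki2.Anisotropic
import Cfsg.Prelude.Def_LieRecognition

/-!
# Zassenhaus groups with a nonabelian 2-group as kernel: the setup
-/

set_option autoImplicit false
set_option linter.unusedSectionVars false

namespace Cfsg.Agent.Lib.SuzukiKernel

open MulAction
open Cfsg.Agent.Lib.Zassenhaus
open scoped commutatorElement

universe u v

variable {G : Type u} {Ω : Type v} [Group G] [MulAction G Ω] [Finite Ω]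

/-- The structure of the kernel `U`: `Z` is its centre, of order `q`. -/
structure Suz (a b : Ω) (U : Subgroup G) (q : ℕ) : Prop where
  hZG : Cfsg.IsZassenhausGroup G Ω
  hab : a ≠ b
  hU : RegKernel a b U
  odd : Odd (Nat.card Ω)
  hd : Nat.card ↥(stabilizer G a ⊓ stabilizer G b) + 1 = q
  hq : ∃ k : ℕ, 2 ≤ k ∧ q = 2 ^ k
  two : IsPGroup 2 U
  card : Nat.card U = q ^ 2 ∨ Nat.card U = q ^ 3
  cardZ : Nat.card {u : G // u ∈ U ∧ u * u = 1} = q
  cen : ∀ z ∈ U, z * z = 1 → ∀ u ∈ U, u * z = z * u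
  sq : ∀ u ∈ U, u * u * (u * u) = 1
  isInvOfCentral : ∀ z ∈ U, (∀ u ∈ U, u * z = z * u) → z * z = 1
  comm : ∀ u ∈ U, ∀ v ∈ U, ⁅u, v⁆ * ⁅u, v⁆ = 1
  invU : ∀ g : G, g * g = 1 → g ≠ 1 → g • a = a → g ∈ U
  conjI : ∀ x y : G, x * x = 1 → x ≠ 1 → y * y = 1 → y ≠ 1 → IsConj x y
  cardI : Nat.card {g : G // g * g = 1 ∧ g ≠ 1} =
    Nat.card Ω * Nat.card ↥(stabilizer G a ⊓ stabilizer G b)

variable (hZ : Cfsg.IsZassenhausGroup G Ω) {a b : Ω} (hab : a ≠ b) {U : Subgroup G}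
  (hU : RegKernel a b U)

include hZ hab hU in
theorem exists_suz (hU2 : IsPGroup 2 U) (hna : ∃ u v : U, u * v ≠ v * u)
    (hcyc : IsCyclic ↥(stabilizer G a ⊓ stabilizer G b)) :
    ∃ q, Suz a b U q ∧ Cfsg.IsSuzukiTwoGroup U ∧ Nat.card (Subgroup.center U) = q := by
  classical
  have := finite_group hZ
  have hn : Odd (Nat.card Ω) := by
    rw [← RegKernel.card_add_one hab hU]
    have : Fact (Nat.Prime 2) := ⟨Nat.prime_two⟩
    obtain ⟨k, hk⟩ := IsPGroup.iff_card.1 hU2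
    have := RegKernel.two_le_card hZ hab hU
    rcases k with _ | k
    · rw [hk] at this; norm_num at this
    · exact ⟨2 ^ k, by rw [hk, pow_succ]; ring⟩
  obtain ⟨hAU, hI, hconj, hcen⟩ := odd_involutions hZ hab hU hn
  set D := stabilizer G a ⊓ stabilizer G b with hD
  -- the automorphisms induced by the two-point stabiliser
  let f : D →* MulAut U :=
    { toFun := fun δ =>
        { toFun := fun u => ⟨(δ : G) * u * (δ : G)⁻¹, RegKernel.conj_pair_mem hZ hab hU u.2 δ⟩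
          invFun := fun u => ⟨(δ : G)⁻¹ * u * (δ : G), by
            simpa using RegKernel.conj_pair_mem hZ hab hU u.2 δ⁻¹⟩
          left_inv := fun u => Subtype.ext (by simp [mul_assoc])
          right_inv := fun u => Subtype.ext (by simp [mul_assoc])
          map_mul' := fun u v => Subtype.ext (by simp [mul_assoc]) }
      map_one' := MulEquiv.ext fun u => Subtype.ext (by simp)
      map_mul' := fun δ ε => MulEquiv.ext fun u => Subtype.ext (by simp [mul_assoc]) }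
  obtain ⟨v, hv⟩ : ∃ v : U, v ≠ 1 ∧ v * v = 1 := by
    have : Fact (Nat.Prime 2) := ⟨Nat.prime_two⟩
    obtain ⟨w, hw, hw1⟩ := RegKernel.exists_ne_one hZ hab hU
    obtain ⟨j, h1, h2⟩ := Suzuki2.Basic.exists_involution_pow hU2 (x := (⟨w, hw⟩ : U))
      (fun h => hw1 (congrArg Subtype.val h))
    exact ⟨_, h1, h2⟩
  have finj : Function.Injective f := fun δ ε h =>
    RegKernel.conj_pair_injective hZ hab hU v.2 (fun h => hv.1 (Subtype.ext h))
      (congrArg Subtype.val (DFunLike.congr_fun h v))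
  have htrans : ∀ x y : U, x ≠ 1 → x * x = 1 → y ≠ 1 → y * y = 1 → ∃ k ∈ f.range, k x = y := by
    intro x y hx1 hx hy1 hy
    have hx' : (x : G) * x = 1 := congrArg Subtype.val hx
    have hy' : (y : G) * y = 1 := congrArg Subtype.val hy
    have hx1' : (x : G) ≠ 1 := fun h => hx1 (Subtype.ext h)
    obtain ⟨g, hg⟩ := isConj_iff.1 (hconj x y hx' hx1' hy' (fun h => hy1 (Subtype.ext h)))
    have hga : g • a = a := by
      by_contra hga
      refine hy1 (Subtype.ext (RegKernel.free hab hU y.2 hga ?_))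
      rw [← hg, mul_smul, mul_smul, inv_smul_smul, mem_stabilizer_iff.1 (hU.le x.2)]
    obtain ⟨u, hu, hδ⟩ := RegKernel.decomp hab hU hga
    refine ⟨f ⟨_, hδ⟩, ⟨_, rfl⟩, Subtype.ext ?_⟩
    show u⁻¹ * g * x * (u⁻¹ * g)⁻¹ = y
    calc u⁻¹ * g * x * (u⁻¹ * g)⁻¹ = u⁻¹ * ((g * x * g⁻¹) * u) := by group
      _ = y := by rw [hg, ← hcen y y.2 hy' u hu, inv_mul_cancel_left]
  have hreg : ∀ k ∈ f.range, ∀ x : U, x ≠ 1 → x * x = 1 → k x = x → k = 1 := by
    rintro _ ⟨δ, rfl⟩ x hx1 - hk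
    have : δ = 1 := RegKernel.conj_pair_injective hZ hab hU x.2 (fun h => hx1 (Subtype.ext h))
      ((congrArg Subtype.val hk).trans (by simp))
    rw [this, map_one]
  have hKcyc : IsCyclic f.range :=
    isCyclic_of_surjective f.rangeRestrict f.rangeRestrict_surjective
  have hcommD : ∀ k ∈ f.range, ∀ l ∈ f.range, k * l = l * k := by
    intro k hk l hl
    have : IsMulCommutative f.range := inferInstance
    exact congrArg Subtype.val (mul_comm' (⟨k, hk⟩ : f.range) ⟨l, hl⟩)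
  have htwo : ∃ x y : U, x ≠ y ∧ x ≠ 1 ∧ x * x = 1 ∧ y ≠ 1 ∧ y * y = 1 := by
    obtain ⟨δ, hδ⟩ : ∃ δ : D, δ ≠ 1 := by
      have : Nontrivial D := Finite.one_lt_card_iff_nontrivial.1
        (RegKernel.two_le_card_pair hZ hab hU)
      exact exists_ne 1
    refine ⟨v, f δ v, fun h => hδ (finj ?_), hv.1, hv.2, fun h => hv.1 ((f δ).injective
      (h.trans (map_one _).symm)), by rw [← map_mul, hv.2, map_one]⟩
    rw [map_one]
    exact hreg _ ⟨δ, rfl⟩ v hv.1 hv.2 h.symm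
  have hK : Suzuki2.Squares.Regular f.range :=
    ⟨⟨hcommD, htrans⟩, hreg, hU2, hna, htwo⟩
  obtain ⟨hsq, hcomm, hcard, -⟩ := Suzuki2.Anisotropic.structure_thm hK
  obtain ⟨k, hk2, hk⟩ := Suzuki2.Squares.exists_pow_center hK
  have hd : Nat.card D + 1 = Nat.card (Subgroup.center U) := by
    rw [← Suzuki2.Squares.card_K hK, Nat.card_congr (MonoidHom.ofInjective finj).toEquiv]
  have hmem : ∀ z : U, z ∈ Subgroup.center U ↔ z * z = 1 := fun z =>
    ⟨Suzuki2.Squares.center_sq hK, Suzuki2.Squares.mem_center_of_sq hK⟩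
  have hcardZ : Nat.card {u : G // u ∈ U ∧ u * u = 1} = Nat.card (Subgroup.center U) :=
    Nat.card_congr
      { toFun := fun u => ⟨⟨u.1, u.2.1⟩, (hmem _).2 (Subtype.ext u.2.2)⟩
        invFun := fun z => ⟨z.1.1, z.1.2, congrArg Subtype.val ((hmem _).1 z.2)⟩
        left_inv := fun _ => rfl
        right_inv := fun _ => rfl }
  refine ⟨_, ⟨hZ, hab, hU, hn, hd, ⟨k, hk2, hk⟩, hU2, hcard, hcardZ,
    fun z hz hz2 u hu => hcen z hz hz2 u hu, ?_, ?_, ?_, hAU, hconj, hI⟩,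
    ⟨inferInstance, hU2, hna, htwo, f.range, hKcyc, ?_⟩, rfl⟩
  · intro u hu
    exact congrArg Subtype.val ((hmem _).1 (hsq ⟨u, hu⟩))
  · intro z hz h
    exact congrArg Subtype.val ((hmem ⟨z, hz⟩).1
      (Subgroup.mem_center_iff.2 fun u => Subtype.ext (h u u.2)))
  · intro u hu v hv
    have h := hcomm (⟨u, hu⟩ : U)⁻¹ (⟨v, hv⟩ : U)⁻¹
    have := congrArg Subtype.val ((hmem _).1 h)
    simpa [commutatorElement_def] using this
  · intro x y hx1 hx hy1 hy
    obtain ⟨k, hk, hkxy⟩ := htrans x y hx1 hx hy1 hy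
    refine ⟨⟨k, hk⟩, hkxy, fun l hl => Subtype.ext ?_⟩
    have hl' : (l : MulAut U) x = k x := hl.trans hkxy.symm
    have := hreg _ (f.range.mul_mem (f.range.inv_mem hk) l.2) x hx1 hx (by
      rw [MulAut.mul_apply, hl']; exact k.symm_apply_apply x)
    exact (inv_mul_eq_one.1 this).symm

end Cfsg.Agent.Lib.SuzukiKernel
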