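import Cfsg.Agent.Lib.SuzukiKernel.Nondeg
import Cfsg.Agent.Lib.Zassenhaus.FpfClasses

/-!
# `q` is an odd power of two
-/

set_option autoImplicit false
set_option linter.unusedSectionVars false

namespace Cfsg.Agent.Lib.SuzukiKernel

open MulAction
open Cfsg.Agent.Lib.Zassenhaus
open scoped Classical

universe u v

variable {G : Type u} {Ω : Type v} [Group G] [Fintype G] [MulAction G Ω] [Finite Ω] {a b : Ω}
  {U : Subgroup G} {q : ℕ}

/-- A strongly real element without fixed points. -/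
def RealFpf (Ω : Type v) [MulAction G Ω] (x : G) : Prop :=
  (∀ c : Ω, x • c ≠ c) ∧ ∃ t : G, (t * t = 1 ∧ t ≠ 1) ∧ t * x * t⁻¹ = x⁻¹

/-- The elements `s` with `s` and `s x` involutions. -/
noncomputable def inverters (x : G) : Finset G :=
  Finset.univ.filter fun s : G => (s * s = 1 ∧ s ≠ 1) ∧ ((s * x) * (s * x) = 1 ∧ s * x ≠ 1)

/-- The union of the conjugates of `A`, without the identity. -/
noncomputable def cover (A : Subgroup G) : Finset G :=
  Finset.univ.filter fun y : G => y ≠ 1 ∧ ∃ g : G, g⁻¹ * y * g ∈ A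

theorem inv_mul_inv {s x : G} (hs : s * s = 1) :
    (s * x) * (s * x) = 1 ↔ s * x * s⁻¹ = x⁻¹ := by
  have hsi : s⁻¹ = s := inv_eq_of_mul_eq_one_right hs
  rw [hsi, eq_inv_iff_mul_eq_one]
  simp only [mul_assoc]

namespace Suz

variable (h : Suz a b U q)
include h

theorem odd_card_pair' : Odd (Nat.card ↥(stabilizer G a ⊓ stabilizer G b)) :=
  odd_card_pair h.hZG h.odd h.hab

theorem exists_conj_zSub {t : G} (ht : t * t = 1 ∧ t ≠ 1) :
    ∃ g : G, g * t * g⁻¹ ∈ zSub U ∧ g * t * g⁻¹ ≠ 1 := by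
  obtain ⟨z, hz, hz1⟩ : ∃ z ∈ zSub U, z ≠ 1 := by
    have : Nontrivial (zSub U) := Finite.one_lt_card_iff_nontrivial.1 (by
      rw [h.card_zSub]; have := h.four_le; omega)
    obtain ⟨z, hz⟩ := exists_ne (1 : zSub U)
    exact ⟨z, z.2, fun e => hz (Subtype.ext e)⟩
  obtain ⟨g, hg⟩ := isConj_iff.1 (h.conjI t z ht.1 ht.2 (h.mem_zSub.1 hz).2 hz1)
  exact ⟨g, hg ▸ hz, hg ▸ hz1⟩

theorem centralizer_conj {t g x : G} (hg : g * t * g⁻¹ ∈ zSub U) (hg1 : g * t * g⁻¹ ≠ 1)
    (hx : x * t = t * x) : g * x * g⁻¹ ∈ U := by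
  rw [← h.centralizer_invol hg hg1, Subgroup.mem_centralizer_singleton_iff]
  calc g * x * g⁻¹ * (g * t * g⁻¹) = g * (x * t) * g⁻¹ := by group
    _ = g * (t * x) * g⁻¹ := by rw [hx]
    _ = _ := by group

theorem centralizer_fix {t x : G} (ht : t * t = 1 ∧ t ≠ 1) (hx : x * t = t * x) :
    ∃ c : Ω, x • c = c ∧ t • c = c := by
  obtain ⟨g, hg, hg1⟩ := h.exists_conj_zSub ht
  refine ⟨g⁻¹ • a, ?_, ?_⟩
  · have e := mem_stabilizer_iff.1 (h.hU.le (h.centralizer_conj hg hg1 hx))
    rw [mul_smul, mul_smul] at e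
    conv_rhs => rw [← e, inv_smul_smul]
  · have e := mem_stabilizer_iff.1 (h.hU.le (h.zSub_le hg))
    rw [mul_smul, mul_smul] at e
    conv_rhs => rw [← e, inv_smul_smul]

theorem fixedBy_invol {t : G} (ht : t * t = 1 ∧ t ≠ 1) {p r : Ω} (hp : t • p = p) (hr : t • r = r) :
    p = r := by
  obtain ⟨g, hg, hg1⟩ := h.exists_conj_zSub ht
  have hfix : ∀ c : Ω, t • c = c → g • c = a := fun c hc => by
    by_contra hne
    refine hg1 (RegKernel.free h.hab h.hU (h.zSub_le hg) hne ?_)
    rw [mul_smul, mul_smul, inv_smul_smul, hc]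
  exact MulAction.injective g ((hfix p hp).trans (hfix r hr).symm)

variable {x t : G} (hx : ∀ c : Ω, x • c ≠ c) (ht : t * t = 1 ∧ t ≠ 1)
  (htx : t * x * t⁻¹ = x⁻¹)
include hx ht htx

theorem no_invol_in_centralizer {s : G} (hs : s * s = 1 ∧ s ≠ 1) : s * x ≠ x * s := by
  intro hc
  obtain ⟨c, hxc, -⟩ := h.centralizer_fix hs hc.symm
  exact hx c hxc

theorem odd_centralizer : Odd (Nat.card (Subgroup.centralizer ({x} : Set G))) := by
  by_contra hev
  haveI : Fact (Nat.Prime 2) := ⟨Nat.prime_two⟩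
  obtain ⟨s, hs⟩ := exists_prime_orderOf_dvd_card' (G := Subgroup.centralizer ({x} : Set G)) 2
    (even_iff_two_dvd.1 (Nat.not_odd_iff_even.1 hev))
  have h1 : (s : G) ≠ 1 := fun e => by
    rw [show s = 1 from Subtype.ext e, orderOf_one] at hs; omega
  refine h.no_invol_in_centralizer hx ht htx (s := (s : G)) ⟨?_, h1⟩
    (Subgroup.mem_centralizer_singleton_iff.1 s.2)
  have := congrArg Subtype.val (hs ▸ pow_orderOf_eq_one s)
  simpa [pow_two] using this

theorem fpf_centralizer {y : G} (hy : y ∈ Subgroup.centralizer ({x} : Set G)) (hy1 : y ≠ 1)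
    (c : Ω) : y • c ≠ c := by
  intro hc
  have hyx : y * x = x * y := Subgroup.mem_centralizer_singleton_iff.1 hy
  have h1 : y • x • c = x • c := by rw [← mul_smul, hyx, mul_smul, hc]
  have h2 : y • x • x • c = x • x • c := by rw [← mul_smul, hyx, mul_smul, h1]
  by_cases hxx : x • x • c = c
  · have hsq : (x * x) • c = c := by rw [mul_smul, hxx]
    obtain ⟨m, hm⟩ := h.odd_centralizer hx ht htx
    have hord : orderOf x ∣ 2 * m + 1 := hm ▸ Subgroup.orderOf_dvd_natCard _
      (Subgroup.mem_centralizer_singleton_iff.2 rfl)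
    have hxe : x = ((x * x) ^ m)⁻¹ := by
      rw [eq_inv_iff_mul_eq_one, ← pow_two, ← pow_mul, ← pow_succ']
      exact orderOf_dvd_iff_pow_eq_one.1 hord
    refine hx c ?_
    rw [hxe, ← mem_stabilizer_iff]
    exact inv_mem (pow_mem (mem_stabilizer_iff.2 hsq) m)
  · exact hy1 (eq_one_of_three h.hZG (Ne.symm (hx c)) (fun e => hx (x • c) e.symm) (Ne.symm hxx)
      hc h1 h2)

theorem inverts {y : G} (hy : y ∈ Subgroup.centralizer ({x} : Set G)) : t * y * t⁻¹ = y⁻¹ := by
  set C := Subgroup.centralizer ({x} : Set G)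
  have hti : t⁻¹ = t := inv_eq_of_mul_eq_one_right ht.1
  have hconj : ∀ w ∈ C, t * w * t⁻¹ ∈ C := by
    intro w hw
    have hw' : w * x = x * w := Subgroup.mem_centralizer_singleton_iff.1 hw
    have e1 : (t * w * t⁻¹) * (t * x * t⁻¹) = (t * x * t⁻¹) * (t * w * t⁻¹) := by
      calc _ = t * (w * x) * t⁻¹ := by group
        _ = t * (x * w) * t⁻¹ := by rw [hw']
        _ = _ := by group
    rw [htx] at e1
    exact Subgroup.mem_centralizer_singleton_iff.2
      ((Commute.inv_right_iff (a := t * w * t⁻¹)).1 e1)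
  let f : C → C := fun w => ⟨(w : G)⁻¹ * (t * w * t⁻¹), mul_mem (inv_mem w.2) (hconj w w.2)⟩
  have hf : Function.Injective f := by
    intro u v e
    have e' : (u : G)⁻¹ * (t * u * t⁻¹) = (v : G)⁻¹ * (t * v * t⁻¹) := congrArg Subtype.val e
    by_contra hne
    have hw1 : (v : G) * (u : G)⁻¹ ≠ 1 := fun e0 => hne (Subtype.ext (mul_inv_eq_one.1 e0).symm)
    have hcw : (v : G) * (u : G)⁻¹ * t = t * ((v : G) * (u : G)⁻¹) := by
      have e2 : t * ((v : G) * (u : G)⁻¹) * t⁻¹ = v * (u : G)⁻¹ := by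
        calc t * ((v : G) * (u : G)⁻¹) * t⁻¹
            = v * ((v : G)⁻¹ * (t * v * t⁻¹)) * (t * u * t⁻¹)⁻¹ := by group
          _ = v * ((u : G)⁻¹ * (t * u * t⁻¹)) * (t * u * t⁻¹)⁻¹ := by rw [e']
          _ = _ := by group
      exact (mul_inv_eq_iff_eq_mul.1 e2).symm
    obtain ⟨c, hc, -⟩ := h.centralizer_fix ht hcw
    exact h.fpf_centralizer hx ht htx (mul_mem v.2 (inv_mem u.2)) hw1 c hc
  obtain ⟨w, hw⟩ := Finite.injective_iff_surjective.1 hf ⟨y, hy⟩
  have hw' : (w : G)⁻¹ * (t * w * t⁻¹) = y := congrArg Subtype.val hw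
  rw [← hw']
  simp only [hti, mul_inv_rev, inv_inv]
  calc t * ((w : G)⁻¹ * (t * w * t)) * t = t * (w : G)⁻¹ * t * w * (t * t) := by group
    _ = t * ((w : G)⁻¹ * t) * w := by rw [ht.1, mul_one, mul_assoc t]

theorem centralizer_eq {y : G} (hy : y ∈ Subgroup.centralizer ({x} : Set G)) (hy1 : y ≠ 1) :
    Subgroup.centralizer ({y} : Set G) = Subgroup.centralizer ({x} : Set G) := by
  have key : ∀ w : G, (∀ c : Ω, w • c ≠ c) → t * w * t⁻¹ = w⁻¹ →
      ∀ u ∈ Subgroup.centralizer ({w} : Set G), ∀ v ∈ Subgroup.centralizer ({w} : Set G),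
        u * v = v * u := by
    intro w hw htw u hu v hv
    have e := h.inverts hw ht htw (mul_mem hu hv)
    rw [show t * (u * v) * t⁻¹ = (t * u * t⁻¹) * (t * v * t⁻¹) by group, h.inverts hw ht htw hu,
      h.inverts hw ht htw hv, ← mul_inv_rev] at e
    exact (inv_injective e).symm
  have hyf := h.fpf_centralizer hx ht htx hy hy1
  have hty := h.inverts hx ht htx hy
  ext w
  refine ⟨fun hw => ?_, fun hw => Subgroup.mem_centralizer_singleton_iff.2 (key x hx htx w hw y hy)⟩
  exact Subgroup.mem_centralizer_singleton_iff.2 (key y hyf hty w hw x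
    (Subgroup.mem_centralizer_singleton_iff.2 (Subgroup.mem_centralizer_singleton_iff.1 hy).symm))

omit hx ht htx in
theorem real_centralizer {x y : G} (hx : RealFpf Ω x)
    (hy : y ∈ Subgroup.centralizer ({x} : Set G)) (hy1 : y ≠ 1) :
    RealFpf Ω y ∧ Subgroup.centralizer ({y} : Set G) = Subgroup.centralizer ({x} : Set G) := by
  obtain ⟨hx, t, ht, htx⟩ := hx
  exact ⟨⟨h.fpf_centralizer hx ht htx hy hy1, t, ht, h.inverts hx ht htx hy⟩,
    h.centralizer_eq hx ht htx hy hy1⟩

theorem inverters_eq : inverters x =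
    Finset.univ.filter fun s : G => t⁻¹ * s ∈ Subgroup.centralizer ({x} : Set G) := by
  have hti : t⁻¹ = t := inv_eq_of_mul_eq_one_right ht.1
  ext s
  simp only [inverters, Finset.mem_filter, Finset.mem_univ, true_and,
    Subgroup.mem_centralizer_singleton_iff]
  constructor
  · rintro ⟨⟨hs, -⟩, hsx, -⟩
    have e := (inv_mul_inv hs).1 hsx
    calc t⁻¹ * s * x = t⁻¹ * (s * x * s⁻¹) * s := by group
      _ = t⁻¹ * x⁻¹ * s := by rw [e]
      _ = t⁻¹ * (t * x * t⁻¹) * s := by rw [htx]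
      _ = _ := by group
  · intro hy
    set y := t⁻¹ * s with hy'
    have hsy : s = t * y := by rw [hy']; group
    have hiny := h.inverts hx ht htx (Subgroup.mem_centralizer_singleton_iff.2 hy)
    have hss : s * s = 1 := by
      calc s * s = t * y * t⁻¹ * (t * t) * y := by rw [hsy]; group
        _ = 1 := by rw [hiny, ht.1, mul_one, inv_mul_cancel]
    have hs1 : s ≠ 1 := fun e => by
      refine h.no_invol_in_centralizer hx ht htx ht ?_
      have : y = t⁻¹ := by rw [hy', e, mul_one]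
      rw [this, hti] at hy
      exact hy
    have hsx : s * x * s⁻¹ = x⁻¹ := by
      calc s * x * s⁻¹ = t * (y * x * y⁻¹) * t⁻¹ := by rw [hsy]; group
        _ = x⁻¹ := by rw [hy, mul_inv_cancel_right, htx]
    refine ⟨⟨hss, hs1⟩, (inv_mul_inv hss).2 hsx, fun e => ?_⟩
    refine h.no_invol_in_centralizer hx ht htx ⟨hss, hs1⟩ ?_
    rw [show x = s from (inv_eq_of_mul_eq_one_right e).symm.trans (inv_eq_of_mul_eq_one_right hss)]

theorem card_inverters :
    (inverters x).card = Nat.card (Subgroup.centralizer ({x} : Set G)) := by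
  rw [h.inverters_eq hx ht htx, ← Fintype.card_subtype, ← Nat.card_eq_fintype_card]
  exact Nat.card_congr ((Equiv.mulLeft t⁻¹).subtypeEquiv fun s => Iff.rfl)

omit hx ht htx in
/-- Two square roots of an involution differ by a central element. -/
theorem root_diff (hcard : Nat.card U = q ^ 2) {u v : G} (hu : u ∈ U) (hv : v ∈ U)
    (hne : u * u ≠ 1) (e : u * u = v * v) : u⁻¹ * v ∈ zSub U := by
  set Z := zSub U
  by_contra hnot
  let roots : G → Finset G := fun z => Finset.univ.filter fun w : G => w ∈ U ∧ w * w = z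
  have hZc : (Finset.univ.filter fun w : G => w ∈ Z).card = q := by
    rw [← Fintype.card_subtype, ← Nat.card_eq_fintype_card]; exact h.card_zSub
  have hlow : q + 1 ≤ (roots (u * u)).card := by
    have hsub : insert v ((Finset.univ.filter fun w : G => w ∈ Z).image fun w => u * w) ⊆
        roots (u * u) := by
      intro w hw
      rcases Finset.mem_insert.1 hw with rfl | hw
      · exact Finset.mem_filter.2 ⟨Finset.mem_univ _, hv, e.symm⟩
      · obtain ⟨z, hz, rfl⟩ := Finset.mem_image.1 hw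
        have hz := (Finset.mem_filter.1 hz).2
        obtain ⟨hzU, hz2⟩ := h.mem_zSub.1 hz
        refine Finset.mem_filter.2 ⟨Finset.mem_univ _, mul_mem hu hzU, ?_⟩
        calc u * z * (u * z) = u * (z * u) * z := by group
          _ = u * u * (z * z) := by rw [← h.z_comm hz hu]; group
          _ = u * u := by rw [hz2, mul_one]
    have hnm : v ∉ (Finset.univ.filter fun w : G => w ∈ Z).image fun w => u * w := by
      intro hm
      obtain ⟨z, hz, hzv⟩ := Finset.mem_image.1 hm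
      rw [← hzv, inv_mul_cancel_left] at hnot
      exact hnot (Finset.mem_filter.1 hz).2
    have := Finset.card_le_card hsub
    rw [Finset.card_insert_of_notMem hnm, Finset.card_image_of_injective _ (mul_right_injective u),
      hZc] at this
    exact this
  have hfib : ∀ z ∈ (Finset.univ.filter fun w : G => w ∈ Z).erase 1,
      q + 1 ≤ (roots z).card := by
    intro z hz
    obtain ⟨δ, hδ, hδz⟩ := h.conj_invol (h.sq_mem hu) hne
      (Finset.mem_filter.1 (Finset.mem_of_mem_erase hz)).2 (Finset.ne_of_mem_erase hz)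
    refine hlow.trans (Finset.card_le_card_of_injOn (fun w => δ * w * δ⁻¹) (fun w hw => ?_)
      (fun w _ w' _ e => mul_left_cancel (mul_right_cancel e)))
    obtain ⟨hwU, hw2⟩ := (Finset.mem_filter.1 hw).2
    refine Finset.mem_filter.2 ⟨Finset.mem_univ _, h.hU.conj δ hδ.1 w hwU, ?_⟩
    rw [← hδz, show δ * w * δ⁻¹ * (δ * w * δ⁻¹) = δ * (w * w) * δ⁻¹ by group, hw2]
  have htot := Finset.card_eq_sum_card_fiberwise
    (s := Finset.univ.filter fun w : G => w ∈ U) (t := Finset.univ.filter fun w : G => w ∈ Z)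
    (f := fun w => w * w) fun w hw =>
      Finset.mem_filter.2 ⟨Finset.mem_univ _, h.sq_mem (Finset.mem_filter.1 hw).2⟩
  have hU2 : (Finset.univ.filter fun w : G => w ∈ U).card = q ^ 2 := by
    rw [← Fintype.card_subtype, ← Nat.card_eq_fintype_card]; exact hcard
  simp only [Finset.filter_filter] at htot
  rw [hU2, ← Finset.add_sum_erase _ _ (Finset.mem_filter.2 ⟨Finset.mem_univ (1 : G), one_mem Z⟩)]
    at htot
  have h1 : q ≤ (roots 1).card := by
    rw [← hZc]
    exact Finset.card_le_card fun w hw =>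
      Finset.mem_filter.2 ⟨Finset.mem_univ _, h.mem_zSub.1 (Finset.mem_filter.1 hw).2⟩
  have h2 : (q - 1) * (q + 1) ≤
      ∑ z ∈ (Finset.univ.filter fun w : G => w ∈ Z).erase 1, (roots z).card := by
    have := Finset.card_nsmul_le_sum _ _ _ hfib
    rwa [smul_eq_mul, Finset.card_erase_of_mem
      (Finset.mem_filter.2 ⟨Finset.mem_univ (1 : G), one_mem Z⟩), hZc] at this
  have hq := h.four_le
  simp only [roots] at h1 h2
  obtain ⟨r, rfl⟩ : ∃ r, q = r + 1 := ⟨q - 1, by omega⟩
  rw [Nat.add_sub_cancel] at h2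
  nlinarith

omit hx ht htx in
/-- The torus of a real element without fixed points. -/
theorem torus (hcard : Nat.card U = q ^ 2) {x : G} (hx : RealFpf Ω x) :
    Nat.card (Subgroup.centralizer ({x} : Set G)) ∣ Nat.card Ω ∧
      5 ≤ Nat.card (Subgroup.centralizer ({x} : Set G)) ∧
      (∀ y ∈ cover (Subgroup.centralizer ({x} : Set G)), RealFpf Ω y ∧
        Nat.card (Subgroup.centralizer ({y} : Set G)) =
          Nat.card (Subgroup.centralizer ({x} : Set G))) ∧
      ∃ i w : ℕ, (w = 2 ∨ w = 4) ∧ w ∣ Nat.card (Subgroup.centralizer ({x} : Set G)) - 1 ∧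
        Nat.card (Subgroup.centralizer ({x} : Set G)) * w * i = Nat.card G ∧
        Nat.card (Subgroup.centralizer ({x} : Set G)) ∣ i - 1 ∧
        (cover (Subgroup.centralizer ({x} : Set G))).card =
          i * (Nat.card (Subgroup.centralizer ({x} : Set G)) - 1) := by
  obtain ⟨hxf, t, ht, htx⟩ := hx
  set A := Subgroup.centralizer ({x} : Set G) with hA
  have hti : t⁻¹ = t := inv_eq_of_mul_eq_one_right ht.1
  have hodd := h.odd_centralizer hxf ht htx
  rw [← hA] at hodd
  have hx1 : x ≠ 1 := fun e => hxf a (by rw [e, one_smul])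
  have hxA : x ∈ A := Subgroup.mem_centralizer_singleton_iff.2 rfl
  have hcomm : ∀ u ∈ A, u ≠ 1 → ∀ v ∈ A, v * u = u * v := fun u hu hu1 v hv =>
    Subgroup.mem_centralizer_singleton_iff.1
      (show v ∈ Subgroup.centralizer ({u} : Set G) by rwa [h.centralizer_eq hxf ht htx hu hu1])
  -- semiregular on the points
  have hn : Nat.card A ∣ Nat.card Ω :=
    Suzuki2.Anisotropic.free_dvd fun y c hc => by
      by_contra hy1
      exact h.fpf_centralizer hxf ht htx y.2 (fun e => hy1 (Subtype.ext e)) c hc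
  obtain ⟨k, hk2, hqk⟩ := h.hq
  have hΩ : Nat.card Ω = q ^ 2 + 1 := by rw [← RegKernel.card_add_one h.hab h.hU, hcard]
  have h3 : ¬ 3 ∣ Nat.card Ω := by
    rw [hΩ, hqk, Nat.dvd_iff_mod_eq_zero, Nat.add_mod, ← pow_mul, mul_comm, pow_mul, Nat.pow_mod]
    norm_num
  have ha1 : 1 < Nat.card A := Finite.one_lt_card_iff_nontrivial.2
    ⟨⟨⟨x, hxA⟩, 1, fun e => hx1 (congrArg Subtype.val e)⟩⟩
  have h5 : 5 ≤ Nat.card A := by
    obtain ⟨m, hm⟩ := hodd
    by_contra hlt
    exact h3 ((show Nat.card A = 3 by omega) ▸ hn)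
  -- the normaliser
  set N := Subgroup.normalizer (A : Set G) with hN
  set W := N ⊓ Subgroup.centralizer ({t} : Set G) with hW
  have hNconj : ∀ g y : G, y ∈ A → y ≠ 1 → g * y * g⁻¹ ∈ A → g ∈ N := by
    intro g y hy hy1 hgy
    have hgy1 : g * y * g⁻¹ ≠ 1 := fun e => hy1 (by
      rw [mul_inv_eq_one, mul_eq_left] at e; exact e)
    have e1 := h.centralizer_eq hxf ht htx hy hy1
    have e2 := h.centralizer_eq hxf ht htx hgy hgy1
    refine Subgroup.mem_normalizer_iff.2 fun v => ?_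
    rw [hA]
    conv_lhs => rw [← e1]
    conv_rhs => rw [← e2]
    rw [Subgroup.mem_centralizer_singleton_iff, Subgroup.mem_centralizer_singleton_iff]
    constructor
    · intro e
      calc g * v * g⁻¹ * (g * y * g⁻¹) = g * (v * y) * g⁻¹ := by group
        _ = g * (y * v) * g⁻¹ := by rw [e]
        _ = _ := by group
    · intro e
      calc v * y = g⁻¹ * (g * v * g⁻¹ * (g * y * g⁻¹)) * g := by group
        _ = g⁻¹ * (g * y * g⁻¹ * (g * v * g⁻¹)) * g := by rw [e]
        _ = _ := by group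
  have hAN : A ≤ N := Subgroup.le_normalizer
  have hdisj : ∀ w ∈ A, w ∈ W → w = 1 := by
    intro w hwA hwW
    by_contra hw1
    obtain ⟨c, hc, -⟩ := h.centralizer_fix ht (Subgroup.mem_centralizer_singleton_iff.1 hwW.2)
    exact h.fpf_centralizer hxf ht htx hwA hw1 c hc
  have hdec : ∀ g ∈ N, ∃ v ∈ A, v⁻¹ * g ∈ W := by
    intro g hg
    have hsinv : (g * t * g⁻¹) * x * (g * t * g⁻¹)⁻¹ = x⁻¹ := by
      have hy : g⁻¹ * x * g ∈ A := by
        have := (Subgroup.mem_normalizer_iff.1 (inv_mem hg) x).1 hxA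
        simpa [mul_assoc] using this
      have e := h.inverts hxf ht htx hy
      calc (g * t * g⁻¹) * x * (g * t * g⁻¹)⁻¹ = g * (t * (g⁻¹ * x * g) * t⁻¹) * g⁻¹ := by group
        _ = g * (g⁻¹ * x * g)⁻¹ * g⁻¹ := by rw [e]
        _ = _ := by group
    have hd : g * t * g⁻¹ * t⁻¹ ∈ A := by
      rw [hA, Subgroup.mem_centralizer_singleton_iff]
      calc g * t * g⁻¹ * t⁻¹ * x = g * t * g⁻¹ * (t⁻¹ * x * t) * t⁻¹ := by group
        _ = g * t * g⁻¹ * x⁻¹ * t⁻¹ := by
          congr 2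
          conv_rhs => rw [← htx, hti]
          rw [hti]
        _ = ((g * t * g⁻¹) * x * (g * t * g⁻¹)⁻¹)⁻¹ * (g * t * g⁻¹ * t⁻¹) := by group
        _ = _ := by rw [hsinv, inv_inv]
    set d := g * t * g⁻¹ * t⁻¹ with hd'
    obtain ⟨m, hm⟩ := hodd
    have hpow : d ^ (2 * m + 1) = 1 := by
      have e := congrArg Subtype.val (pow_card_eq_one' (x := (⟨d, hd⟩ : A)))
      rw [hm] at e
      simpa using e
    refine ⟨d ^ (m + 1), pow_mem hd _, N.mul_mem (N.inv_mem (hAN (A.pow_mem hd _))) hg, ?_⟩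
    set v := d ^ (m + 1) with hv'
    have hvv : v * v = d := by
      rw [hv', ← pow_add, show m + 1 + (m + 1) = 2 * m + 1 + 1 by ring, pow_succ, hpow, one_mul]
    have htv := h.inverts hxf ht htx (pow_mem hd (m + 1))
    refine Subgroup.mem_centralizer_singleton_iff.2 ?_
    calc v⁻¹ * g * t = v⁻¹ * (d * t) * g := by rw [hd']; group
      _ = v * t * g := by rw [← hvv]; group
      _ = t * (t⁻¹ * v * t) * g := by group
      _ = t * v⁻¹ * g := by
        have e2 : t⁻¹ * v * t = v⁻¹ := by rw [hti, ← htv, hti]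
        rw [e2]
      _ = _ := by group
  have hNcard : Nat.card N = Nat.card A * Nat.card W := by
    rw [← Nat.card_prod]
    refine (Nat.card_eq_of_bijective (fun p : A × W => (⟨(p.1 : G) * p.2,
      mul_mem (hAN p.1.2) p.2.2.1⟩ : N)) ⟨fun p p' e => ?_, fun g => ?_⟩).symm
    · have e' : (p.1 : G) * p.2 = p'.1 * p'.2 := congrArg Subtype.val e
      have e2 : (p'.1 : G)⁻¹ * p.1 = p'.2 * (p.2 : G)⁻¹ := by
        calc (p'.1 : G)⁻¹ * p.1 = (p'.1 : G)⁻¹ * (p.1 * p.2) * (p.2 : G)⁻¹ := by group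
          _ = _ := by rw [e']; group
      have e3 := hdisj _ (mul_mem (inv_mem p'.1.2) p.1.2)
        (e2 ▸ mul_mem p'.2.2 (inv_mem p.2.2))
      exact Prod.ext (Subtype.ext (inv_mul_eq_one.1 e3).symm)
        (Subtype.ext (mul_inv_eq_one.1 (e2 ▸ e3)).symm)
    · obtain ⟨v, hv, hw⟩ := hdec g g.2
      exact ⟨(⟨v, hv⟩, ⟨_, hw⟩), Subtype.ext (mul_inv_cancel_left v g)⟩
  -- the complement
  have htW : t ∈ W := ⟨hNconj t x hxA hx1 (by rw [htx]; exact inv_mem hxA),
    Subgroup.mem_centralizer_singleton_iff.2 rfl⟩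
  have hWinv : ∀ w ∈ W, w * w = 1 → w ≠ 1 → w = t := by
    intro w hw hw2 hw1
    -- an involution normalising `A` centralises no non-identity element
    have hwx : w * x * w⁻¹ = x⁻¹ := by
      have hwi : w⁻¹ = w := inv_eq_of_mul_eq_one_right hw2
      have hy := (Subgroup.mem_normalizer_iff.1 hw.1 x).1 hxA
      set y := x * (w * x * w⁻¹) with hy'
      have hyw : y * w = w * y := by
        have e1 : w * y * w⁻¹ = y := by
          calc w * y * w⁻¹ = (w * x * w⁻¹) * ((w * w) * x * (w * w)⁻¹) := by rw [hy']; group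
            _ = (w * x * w⁻¹) * x := by rw [hw2, one_mul, inv_one, mul_one]
            _ = y := by rw [hy']; exact hcomm x hxA hx1 _ hy
        exact (mul_inv_eq_iff_eq_mul.1 e1).symm
      by_contra hne
      have hy1 : y ≠ 1 := fun e => hne (inv_eq_of_mul_eq_one_right e).symm
      obtain ⟨c, hc, -⟩ := h.centralizer_fix ⟨hw2, hw1⟩ hyw
      exact h.fpf_centralizer hxf ht htx (mul_mem hxA hy) hy1 c hc
    have hm : t⁻¹ * w ∈ A := by
      rw [hA, Subgroup.mem_centralizer_singleton_iff]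
      calc t⁻¹ * w * x = t⁻¹ * (w * x * w⁻¹) * w := by group
        _ = t⁻¹ * x⁻¹ * w := by rw [hwx]
        _ = t⁻¹ * (t * x * t⁻¹) * w := by rw [htx]
        _ = _ := by group
    exact (inv_mul_eq_one.1 (hdisj _ hm (mul_mem (inv_mem htW) hw))).symm
  obtain ⟨g, hg, hg1⟩ := h.exists_conj_zSub ht
  have hWU : ∀ w ∈ W, g * w * g⁻¹ ∈ U := fun w hw =>
    h.centralizer_conj hg hg1 (Subgroup.mem_centralizer_singleton_iff.1 hw.2)
  have hWsq : ∀ w ∈ W, w ≠ 1 → w ≠ t → w * w = t := by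
    intro w hw hw1 hwt
    have e : (w * w) * (w * w) = 1 := by
      have := h.sq _ (hWU w hw)
      rw [show g * w * g⁻¹ * (g * w * g⁻¹) * (g * w * g⁻¹ * (g * w * g⁻¹)) =
        g * ((w * w) * (w * w)) * g⁻¹ by group, mul_inv_eq_one, mul_eq_left] at this
      exact this
    exact hWinv _ (mul_mem hw hw) e fun e1 => hwt (hWinv w hw e1 hw1)
  have hW4 : Nat.card W ≤ 4 := by
    rw [Nat.card_eq_fintype_card, Fintype.card_subtype]
    by_cases hall : ∀ w ∈ W, w = 1 ∨ w = t
    · refine (Finset.card_le_card (t := {1, t}) fun w hw => ?_).trans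
        (Finset.card_le_two.trans (by norm_num))
      rcases hall w (Finset.mem_filter.1 hw).2 with e | e <;> simp [e]
    push Not at hall
    obtain ⟨w₀, hw₀, hw₀1, hw₀t⟩ := hall
    refine (Finset.card_le_card (t := {1, t, w₀, w₀ * t}) fun w hw => ?_).trans Finset.card_le_four
    simp only [Finset.mem_insert, Finset.mem_singleton]
    have hwW := (Finset.mem_filter.1 hw).2
    by_cases hw1 : w = 1
    · exact Or.inl hw1
    by_cases hwt : w = t
    · exact Or.inr (Or.inl hwt)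
    have e0 := hWsq w₀ hw₀ hw₀1 hw₀t
    have hne : g * w₀ * g⁻¹ * (g * w₀ * g⁻¹) ≠ 1 := by
      rw [show g * w₀ * g⁻¹ * (g * w₀ * g⁻¹) = g * (w₀ * w₀) * g⁻¹ by group, e0]; exact hg1
    have hz := h.root_diff hcard (hWU w₀ hw₀) (hWU w hwW) hne (by
      rw [show g * w₀ * g⁻¹ * (g * w₀ * g⁻¹) = g * (w₀ * w₀) * g⁻¹ by group,
        show g * w * g⁻¹ * (g * w * g⁻¹) = g * (w * w) * g⁻¹ by group, e0,
        hWsq w hwW hw1 hwt])
    have hd2 : (w₀⁻¹ * w) * (w₀⁻¹ * w) = 1 := by
      have := (h.mem_zSub.1 hz).2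
      rw [show (g * w₀ * g⁻¹)⁻¹ * (g * w * g⁻¹) * ((g * w₀ * g⁻¹)⁻¹ * (g * w * g⁻¹)) =
        g * ((w₀⁻¹ * w) * (w₀⁻¹ * w)) * g⁻¹ by group, mul_inv_eq_one, mul_eq_left] at this
      exact this
    by_cases hd1 : w₀⁻¹ * w = 1
    · exact Or.inr (Or.inr (Or.inl (inv_mul_eq_one.1 hd1).symm))
    · refine Or.inr (Or.inr (Or.inr ?_))
      rw [← hWinv _ (mul_mem (inv_mem hw₀) hwW) hd2 hd1, mul_inv_cancel_left]
  have hW24 : Nat.card W = 2 ∨ Nat.card W = 4 := by
    have hdvd : Nat.card W ∣ q ^ 2 := by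
      rw [← hcard]
      let φ : W →* U :=
        { toFun := fun w => ⟨g * w * g⁻¹, hWU w w.2⟩
          map_one' := Subtype.ext (by simp)
          map_mul' := fun v w => Subtype.ext (by simp [mul_assoc]) }
      exact Subgroup.card_dvd_of_injective φ fun v w e =>
        Subtype.ext (mul_left_cancel (mul_right_cancel (congrArg Subtype.val e)))
    rw [hqk, ← pow_mul] at hdvd
    obtain ⟨i, -, hi⟩ := (Nat.dvd_prime_pow Nat.prime_two).1 hdvd
    have h1 : 1 < Nat.card W := Finite.one_lt_card_iff_nontrivial.2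
      ⟨⟨⟨t, htW⟩, 1, fun e => ht.2 (congrArg Subtype.val e)⟩⟩
    rw [hi] at hW4 h1 ⊢
    have : i ≤ 2 := by
      by_contra hc
      have : 2 ^ 3 ≤ 2 ^ i := Nat.pow_le_pow_right (by norm_num) (by omega)
      omega
    interval_cases i <;> simp_all
  have hWdvd : Nat.card W ∣ Nat.card A - 1 := by
    let X := {y : A // y ≠ 1}
    have hX : Nat.card X = Nat.card A - 1 := by
      rw [Nat.card_eq_fintype_card, Fintype.card_subtype_compl, Fintype.card_subtype_eq,
        Nat.card_eq_fintype_card]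
    rw [← hX]
    let act : MulAction W X :=
      { smul := fun w y => ⟨⟨(w : G) * (y.1 : G) * (w : G)⁻¹,
          (Subgroup.mem_normalizer_iff.1 w.2.1 _).1 y.1.2⟩, fun e => y.2 (Subtype.ext (by
            have e' : (w : G) * (y.1 : G) * (w : G)⁻¹ = 1 := congrArg Subtype.val e
            rw [mul_inv_eq_one, mul_eq_left] at e'
            exact e'))⟩
        one_smul := fun y => Subtype.ext (Subtype.ext (by
          show (1 : G) * (y.1 : G) * (1 : G)⁻¹ = y.1
          rw [one_mul, inv_one, mul_one]))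
        mul_smul := fun v w y => Subtype.ext (Subtype.ext (by
          show (v : G) * w * (y.1 : G) * ((v : G) * w)⁻¹ =
            v * ((w : G) * (y.1 : G) * (w : G)⁻¹) * (v : G)⁻¹
          group)) }
    refine @Suzuki2.Anisotropic.free_dvd W X _ act _ _ fun w y e => ?_
    have e' : (w : G) * (y.1 : G) * (w : G)⁻¹ = (y.1 : G) :=
      congrArg (fun z : X => (z.1 : G)) e
    have hm : (w : G) ∈ Subgroup.centralizer ({(y.1 : G)} : Set G) :=
      Subgroup.mem_centralizer_singleton_iff.2 (mul_inv_eq_iff_eq_mul.1 e')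
    rw [h.centralizer_eq hxf ht htx y.1.2 (fun e0 => y.2 (Subtype.ext e0))] at hm
    exact Subtype.ext (hdisj _ hm w.2)
  refine ⟨hn, h5, fun y hy => ?_, N.index, Nat.card W, hW24, hWdvd,
    by rw [← hNcard, Subgroup.card_mul_index], ?_, ?_⟩
  · obtain ⟨-, hy1, g, hgy⟩ := Finset.mem_filter.1 hy
    set y' := g⁻¹ * y * g with hy'
    have hy'1 : y' ≠ 1 := fun e => hy1 (by
      rw [show y = g * y' * g⁻¹ by rw [hy']; group, e, mul_one, mul_inv_cancel])
    have hyy : y = g * y' * g⁻¹ := by rw [hy']; group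
    have hf := h.fpf_centralizer hxf ht htx hgy hy'1
    have hin := h.inverts hxf ht htx hgy
    refine ⟨⟨fun c hc => hf (g⁻¹ • c) ?_, g * t * g⁻¹, ⟨?_, fun e => ht.2 ?_⟩, ?_⟩, ?_⟩
    · rw [hy', mul_smul, mul_smul, smul_inv_smul, hc]
    · rw [show g * t * g⁻¹ * (g * t * g⁻¹) = g * (t * t) * g⁻¹ by group, ht.1, mul_one,
        mul_inv_cancel]
    · rwa [mul_inv_eq_one, mul_eq_left] at e
    · rw [hyy, show g * t * g⁻¹ * (g * y' * g⁻¹) * (g * t * g⁻¹)⁻¹ = g * (t * y' * t⁻¹) * g⁻¹ by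
        group, hin]
      group
    · rw [hA, ← h.centralizer_eq hxf ht htx hgy hy'1]
      refine Nat.card_congr ((MulAut.conj g⁻¹).toEquiv.subtypeEquiv fun v => ?_)
      show v ∈ Subgroup.centralizer ({y} : Set G) ↔
        g⁻¹ * v * g⁻¹⁻¹ ∈ Subgroup.centralizer ({y'} : Set G)
      rw [Subgroup.mem_centralizer_singleton_iff, Subgroup.mem_centralizer_singleton_iff, inv_inv,
        hy']
      constructor
      · intro e
        calc g⁻¹ * v * g * (g⁻¹ * y * g) = g⁻¹ * (v * y) * g := by group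
          _ = g⁻¹ * (y * v) * g := by rw [e]
          _ = _ := by group
      · intro e
        calc v * y = g * (g⁻¹ * v * g * (g⁻¹ * y * g)) * g⁻¹ := by group
          _ = g * (g⁻¹ * y * g * (g⁻¹ * v * g)) * g⁻¹ := by rw [e]
          _ = _ := by group
  · -- semiregular on the other conjugates
    let X := {c : G ⧸ N // c ≠ QuotientGroup.mk 1}
    have hX : Nat.card X = N.index - 1 := by
      rw [Subgroup.index, Nat.card_eq_fintype_card, Fintype.card_subtype_compl,
        Fintype.card_subtype_eq, Nat.card_eq_fintype_card]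
    rw [← hX]
    have hmove : ∀ y : A, ∀ c : X, y • c.1 ≠ QuotientGroup.mk 1 := fun y c e => c.2 (by
      have hy : y⁻¹ • (QuotientGroup.mk 1 : G ⧸ N) = QuotientGroup.mk 1 := by
        show QuotientGroup.mk ((y : G)⁻¹ * 1) = QuotientGroup.mk (s := N) 1
        rw [mul_one, QuotientGroup.eq, inv_inv, mul_one]
        exact hAN y.2
      rw [← inv_smul_smul y c.1, e, hy])
    let act : MulAction A X :=
      { smul := fun y c => ⟨y • c.1, hmove y c⟩
        one_smul := fun c => Subtype.ext (one_smul A c.1)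
        mul_smul := fun y z c => Subtype.ext (mul_smul y z c.1) }
    refine @Suzuki2.Anisotropic.free_dvd A X _ act _ _ fun y c e => ?_
    by_contra hy1
    have e' : y • c.1 = c.1 := congrArg Subtype.val e
    obtain ⟨r, hr⟩ := QuotientGroup.mk_surjective c.1
    rw [← hr] at e'
    have e2 : ((y : G) * r)⁻¹ * r ∈ N := QuotientGroup.eq.1 e'
    set z := r⁻¹ * (y : G) * r with hz'
    have hzN : z ∈ N := by
      have : z = (((y : G) * r)⁻¹ * r)⁻¹ := by rw [hz']; group
      rw [this]; exact inv_mem e2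
    have hzA : z ∈ A := by
      obtain ⟨v, hv, hw⟩ := hdec z hzN
      obtain ⟨m, hm⟩ := hodd
      have hzodd : z ^ (2 * m + 1) = 1 := by
        have ey : (y : G) ^ (2 * m + 1) = 1 := by
          have := congrArg Subtype.val (pow_card_eq_one' (x := y))
          rw [hm] at this
          simpa using this
        rw [hz', show r⁻¹ * (y : G) * r = r⁻¹ * (y : G) * (r⁻¹)⁻¹ by rw [inv_inv], conj_pow, ey]
        group
      haveI : (A.subgroupOf N).Normal := Subgroup.normal_in_normalizer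
      let φ : W →* N ⧸ A.subgroupOf N :=
        (QuotientGroup.mk' _).comp (Subgroup.inclusion inf_le_left)
      have e3 : φ ⟨v⁻¹ * z, hw⟩ = QuotientGroup.mk' (A.subgroupOf N) ⟨z, hzN⟩ := by
        refine QuotientGroup.eq.2 ?_
        show (v⁻¹ * z)⁻¹ * z ∈ A
        rw [show (v⁻¹ * z)⁻¹ * z = z⁻¹ * v * z by group]
        have := (Subgroup.mem_normalizer_iff.1 (inv_mem hzN) v).1 hv
        rwa [inv_inv] at this
      have hp : φ ⟨v⁻¹ * z, hw⟩ ^ (2 * m + 1) = 1 := by
        rw [e3, ← map_pow, show (⟨z, hzN⟩ : N) ^ (2 * m + 1) = 1 from Subtype.ext hzodd, map_one]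
      have hp4 : φ ⟨v⁻¹ * z, hw⟩ ^ Nat.card W = 1 := by rw [← map_pow, pow_card_eq_one', map_one]
      have hone : φ ⟨v⁻¹ * z, hw⟩ = 1 := by
        rw [← orderOf_eq_one_iff]
        refine Nat.eq_one_of_dvd_coprimes ?_ (orderOf_dvd_of_pow_eq_one hp4)
          (orderOf_dvd_of_pow_eq_one hp)
        rcases hW24 with e | e <;> rw [e]
        · exact Nat.Coprime.symm (by simp [Nat.coprime_two_right])
        · exact Nat.Coprime.pow_left 2 (Nat.Coprime.symm (by simp [Nat.coprime_two_right] : Nat.Coprime (2*m+1) 2))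
      rw [e3] at hone
      exact (QuotientGroup.eq_one_iff (⟨z, hzN⟩ : N)).1 hone
    have hz1 : z ≠ 1 := fun e0 => hy1 (Subtype.ext (by
      show (y : G) = 1
      rw [show (y : G) = r * z * r⁻¹ by rw [hz']; group, e0, mul_one, mul_inv_cancel]))
    have hrN := hNconj r z hzA hz1 (by
      rw [show r * z * r⁻¹ = (y : G) by rw [hz']; group]; exact y.2)
    refine c.2 ?_
    rw [← hr]
    exact QuotientGroup.eq.2 (by rw [mul_one]; exact inv_mem hrN)
  · -- the conjugates
    rw [show Nat.card A - 1 = Nat.card {y : A // y ≠ 1} by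
      rw [Nat.card_eq_fintype_card (α := {y : A // y ≠ 1}), Fintype.card_subtype_compl,
        Fintype.card_subtype_eq, Nat.card_eq_fintype_card], Subgroup.index, ← Nat.card_prod,
      ← Fintype.card_coe, ← Nat.card_eq_fintype_card]
    symm
    refine Nat.card_eq_of_bijective (fun p : (G ⧸ N) × {y : A // y ≠ 1} =>
      (⟨p.1.out * (p.2.1 : G) * p.1.out⁻¹, Finset.mem_filter.2 ⟨Finset.mem_univ _, fun e =>
        p.2.2 (Subtype.ext (by rw [mul_inv_eq_one, mul_eq_left] at e; exact e)), p.1.out, by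
          rw [show p.1.out⁻¹ * (p.1.out * (p.2.1 : G) * p.1.out⁻¹) * p.1.out = p.2.1 by group]
          exact p.2.1.2⟩⟩ : ↥(cover A))) ⟨fun p p' e => ?_, fun y => ?_⟩
    · have e' : p.1.out * (p.2.1 : G) * p.1.out⁻¹ = p'.1.out * (p'.2.1 : G) * p'.1.out⁻¹ :=
        congrArg Subtype.val e
      have hr : p'.1.out⁻¹ * p.1.out ∈ N := hNconj _ (p.2.1 : G) p.2.1.2
        (fun e0 => p.2.2 (Subtype.ext e0)) (by
        rw [show p'.1.out⁻¹ * p.1.out * (p.2.1 : G) * (p'.1.out⁻¹ * p.1.out)⁻¹ =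
          p'.1.out⁻¹ * (p.1.out * (p.2.1 : G) * p.1.out⁻¹) * p'.1.out by group, e']
        convert p'.2.1.2 using 1
        group)
      have hpeq : p'.1 = p.1 := by
        rw [← QuotientGroup.out_eq' p'.1, ← QuotientGroup.out_eq' p.1]
        exact QuotientGroup.eq.2 hr
      rw [hpeq] at e'
      exact Prod.ext hpeq.symm (Subtype.ext (Subtype.ext (mul_left_cancel (mul_right_cancel e'))))
    · obtain ⟨-, hy1, r, hr⟩ := Finset.mem_filter.1 y.2
      obtain ⟨k', hk'⟩ := QuotientGroup.mk_out_eq_mul N r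
      set o := (QuotientGroup.mk r : G ⧸ N).out with ho
      have hv : o⁻¹ * (y : G) * o ∈ A := by
        rw [hk']
        have := (Subgroup.mem_normalizer_iff.1 (inv_mem k'.2) _).1 hr
        convert this using 1
        group
      refine ⟨(QuotientGroup.mk r, ⟨⟨_, hv⟩, fun e0 => hy1 ?_⟩), Subtype.ext ?_⟩
      · have : o⁻¹ * (y : G) * o = 1 := congrArg Subtype.val e0
        rw [show (y : G) = o * (o⁻¹ * (y : G) * o) * o⁻¹ by group, this, mul_one, mul_inv_cancel]
      · show o * (o⁻¹ * (y : G) * o) * o⁻¹ = y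
        group

omit hx ht htx in
/-- Tori of non-conjugate real elements have coprime orders. -/
theorem tori_coprime {x x' : G} (hx : RealFpf Ω x) (hx' : RealFpf Ω x')
    (hne : x' ∉ cover (Subgroup.centralizer ({x} : Set G))) :
    Nat.Coprime (Nat.card (Subgroup.centralizer ({x} : Set G)))
      (Nat.card (Subgroup.centralizer ({x'} : Set G))) := by
  refine Nat.coprime_of_dvd fun p hp h1 h2 => ?_
  haveI : Fact p.Prime := ⟨hp⟩
  have key : ∀ x : G, RealFpf Ω x → p ∣ Nat.card (Subgroup.centralizer ({x} : Set G)) →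
      ∃ P : Sylow p G, (P : Subgroup G) ≤ Subgroup.centralizer ({x} : Set G) ∧
        Nontrivial (P : Subgroup G) := by
    intro x hx hdvd
    obtain ⟨y, hy⟩ := exists_prime_orderOf_dvd_card' p hdvd
    have hy1 : (y : G) ≠ 1 := fun e => by
      rw [show y = 1 from Subtype.ext e, orderOf_one] at hy; exact hp.one_lt.ne hy
    have hyord : orderOf (y : G) = p := by rw [Subgroup.orderOf_coe]; exact hy
    obtain ⟨P, hP⟩ := IsPGroup.exists_le_sylow (p := p) (IsPGroup.of_card (n := 1)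
      (show Nat.card (Subgroup.zpowers (y : G)) = p ^ 1 by rw [Nat.card_zpowers, hyord, pow_one]))
    have hyP : (y : G) ∈ (P : Subgroup G) := hP (Subgroup.mem_zpowers _)
    haveI : Nontrivial (P : Subgroup G) := ⟨⟨⟨(y : G), hyP⟩, 1, fun e => hy1 (congrArg Subtype.val e)⟩⟩
    haveI := P.2.center_nontrivial
    obtain ⟨⟨⟨z, hzP⟩, hzc⟩, hz1⟩ := exists_ne (1 : Subgroup.center (P : Subgroup G))
    have hz1' : z ≠ 1 := fun e => hz1 (Subtype.ext (Subtype.ext e))
    have hzy : z ∈ Subgroup.centralizer ({(y : G)} : Set G) :=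
      Subgroup.mem_centralizer_singleton_iff.2
        (congrArg Subtype.val (Subgroup.mem_center_iff.1 hzc ⟨y, hyP⟩)).symm
    rw [(h.real_centralizer hx y.2 hy1).2] at hzy
    refine ⟨P, fun w hw => ?_, inferInstance⟩
    rw [← (h.real_centralizer hx hzy hz1').2]
    exact Subgroup.mem_centralizer_singleton_iff.2
      (congrArg Subtype.val (Subgroup.mem_center_iff.1 hzc ⟨w, hw⟩))
  obtain ⟨P, hP, hPn⟩ := key x hx h1
  obtain ⟨P', hP', -⟩ := key x' hx' h2
  obtain ⟨g, hg⟩ := MulAction.exists_smul_eq G P P'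
  obtain ⟨⟨z, hzP⟩, hz1⟩ := exists_ne (1 : (P : Subgroup G))
  have hz1' : z ≠ 1 := fun e => hz1 (Subtype.ext e)
  have hzP' : g * z * g⁻¹ ∈ (P' : Subgroup G) := by
    rw [← hg, Sylow.coe_subgroup_smul]
    exact Subgroup.smul_mem_pointwise_smul _ (MulAut.conj g) _ hzP
  have hgz1 : g * z * g⁻¹ ≠ 1 := fun e => hz1' (by
    rw [mul_inv_eq_one, mul_eq_left] at e; exact e)
  have hx'1 : x' ≠ 1 := fun e => hx'.1 a (by rw [e, one_smul])
  refine hne (Finset.mem_filter.2 ⟨Finset.mem_univ _, hx'1, g, ?_⟩)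
  have e1 := (h.real_centralizer hx (hP hzP) hz1').2
  have e2 := (h.real_centralizer hx' (hP' hzP') hgz1).2
  have e3 : x' ∈ Subgroup.centralizer ({g * z * g⁻¹} : Set G) := by
    rw [e2]; exact Subgroup.mem_centralizer_singleton_iff.2 rfl
  rw [Subgroup.mem_centralizer_singleton_iff] at e3
  rw [← e1, Subgroup.mem_centralizer_singleton_iff]
  calc g⁻¹ * x' * g * z = g⁻¹ * (x' * (g * z * g⁻¹)) * g := by group
    _ = g⁻¹ * ((g * z * g⁻¹) * x') * g := by rw [e3]
    _ = _ := by group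

omit hx ht htx in
/-- The pairs of involutions with fixed-point-free product. -/
theorem real_count (hcard : Nat.card U = q ^ 2) :
    2 * ∑ x ∈ Finset.univ.filter (fun x : G => RealFpf Ω x),
        Nat.card (Subgroup.centralizer ({x} : Set G)) = Nat.card G * q := by
  have := Fintype.ofFinite Ω
  have := pretransitive h.hZG
  set n := Nat.card Ω with hn
  set d := Nat.card ↥(stabilizer G a ⊓ stabilizer G b) with hd'
  have hdq : d + 1 = q := h.hd
  have hnq : n = q ^ 2 + 1 := by rw [hn, ← RegKernel.card_add_one h.hab h.hU, hcard]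
  have hG : Nat.card G = n * (q ^ 2 * d) := by
    rw [RegKernel.card_group h.hZG h.hab h.hU, hcard]
  let π : G → ℕ := fun x => Nat.card (fixedBy Ω x)
  set I := Finset.univ.filter fun x : G => x * x = 1 ∧ x ≠ 1 with hI
  have hIc : I.card = n * d := by
    rw [hI, ← Fintype.card_subtype, ← Nat.card_eq_fintype_card]; exact h.cardI
  set F0 := Finset.univ.filter fun x : G => π x = 0 with hF0
  set F1 := Finset.univ.filter fun x : G => x ≠ 1 ∧ π x = 1 with hF1
  set F2 := Finset.univ.filter fun x : G => x ≠ 1 ∧ π x = 2 with hF2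
  have hπ1 : π 1 = n := Nat.card_congr (Equiv.subtypeUnivEquiv fun x => one_smul G x)
  have hfix0 : ∀ x : G, π x = 0 ↔ ∀ c : Ω, x • c ≠ c := fun x => by
    simp only [π, Nat.card_eq_zero]
    exact ⟨fun hh c hc => (hh.resolve_right (not_infinite_iff_finite.2 inferInstance)).false ⟨c, hc⟩,
      fun hh => Or.inl ⟨fun c => hh c.1 c.2⟩⟩
  have hq4 := h.four_le
  have hsplit : ∀ f : G → ℕ, ∑ x, f x =
      f 1 + ∑ x ∈ F0, f x + ∑ x ∈ F1, f x + ∑ x ∈ F2, f x := by
    intro f
    rw [← Finset.add_sum_erase _ f (Finset.mem_univ (1 : G)), add_assoc, add_assoc]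
    congr 1
    have e : Finset.univ.erase (1 : G) = F0 ∪ (F1 ∪ F2) := by
      ext x
      simp only [Finset.mem_erase, Finset.mem_univ, and_true, Finset.mem_union, hF0, hF1, hF2,
        Finset.mem_filter, true_and]
      constructor
      · intro hx1
        have hle : π x ≤ 2 := card_fixedBy_le h.hZG hx1
        rcases (show π x = 0 ∨ π x = 1 ∨ π x = 2 by omega) with e | e | e
        · exact Or.inl e
        · exact Or.inr (Or.inl ⟨hx1, e⟩)
        · exact Or.inr (Or.inr ⟨hx1, e⟩)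
      · rintro (e | ⟨hx1, -⟩ | ⟨hx1, -⟩)
        · intro e1
          rw [e1, hπ1, hnq] at e; omega
        · exact hx1
        · exact hx1
    rw [e, Finset.sum_union, Finset.sum_union]
    · refine Finset.disjoint_left.2 fun x hx hx' => ?_
      have := (Finset.mem_filter.1 hx).2.2
      have := (Finset.mem_filter.1 hx').2.2
      omega
    · refine Finset.disjoint_left.2 fun x hx hx' => ?_
      have := (Finset.mem_filter.1 hx).2
      rcases Finset.mem_union.1 hx' with e | e <;>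
        · have := (Finset.mem_filter.1 e).2.2
          omega
  have hone := hsplit fun _ => 1
  simp only [Finset.sum_const, Finset.card_univ, ← Nat.card_eq_fintype_card, smul_eq_mul,
    mul_one] at hone
  have hburn : ∑ x : G, π x = Nat.card G := by
    have h0 := sum_card_fixedBy_eq_card_orbits_mul_card_group G Ω
    simp only [← Nat.card_eq_fintype_card] at h0
    rw [show Nat.card (Quotient (orbitRel G Ω)) = 1 from Nat.card_eq_one_iff_unique.2
      ⟨(pretransitive_iff_subsingleton_quotient G Ω).mp inferInstance,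
        ⟨(⟦a⟧ : Quotient (orbitRel G Ω))⟩⟩, one_mul] at h0
    exact h0
  have hπs := hsplit π
  rw [hburn, hπ1, Finset.sum_eq_zero (s := F0) (fun x hx => (Finset.mem_filter.1 hx).2),
    Finset.sum_congr rfl (s₁ := F1) (g := fun _ => 1) (fun x hx => (Finset.mem_filter.1 hx).2.2),
    Finset.sum_congr rfl (s₁ := F2) (g := fun _ => 2) (fun x hx => (Finset.mem_filter.1 hx).2.2),
    Finset.sum_const, Finset.sum_const, smul_eq_mul, smul_eq_mul, mul_one] at hπs
  have hfpf := two_mul_card_fpf h.hZG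
  rw [show Nat.card {g : G // ∀ c : Ω, g • c ≠ c} = F0.card by
    rw [Nat.card_eq_fintype_card, Fintype.card_subtype, hF0]
    congr 1
    exact Finset.filter_congr fun x _ => (hfix0 x).symm, ← hn] at hfpf
  -- all pairs of involutions
  have hpairs : ∑ x : G, (inverters x).card = I.card * I.card := by
    simp only [inverters, Finset.card_filter]
    rw [Finset.sum_comm, ← Finset.card_product, Finset.card_eq_sum_ones]
    rw [show (I ×ˢ I).sum (fun _ => 1) = ∑ s ∈ I, ∑ r ∈ I, 1 from Finset.sum_product _ _ _]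
    rw [← Finset.sum_subset (Finset.subset_univ I) fun s _ hs => Finset.sum_eq_zero fun x _ =>
      if_neg fun hh => hs (Finset.mem_filter.2 ⟨Finset.mem_univ _, hh.1⟩)]
    refine Finset.sum_congr rfl fun s hs => ?_
    rw [Finset.sum_boole, Nat.cast_id, Finset.sum_const, smul_eq_mul, mul_one]
    refine Finset.card_nbij' (fun x => s * x) (fun r => s⁻¹ * r) (fun x hx => ?_) (fun r hr => ?_)
      (fun x _ => inv_mul_cancel_left s x) (fun r _ => mul_inv_cancel_left s r)
    · simp only [Finset.mem_coe, Finset.mem_filter] at hx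
      exact Finset.mem_filter.2 ⟨Finset.mem_univ _, hx.2.2⟩
    · simp only [Finset.mem_coe, Finset.mem_filter]
      refine ⟨Finset.mem_univ _, (Finset.mem_filter.1 hs).2, ?_⟩
      rw [mul_inv_cancel_left]
      exact (Finset.mem_filter.1 hr).2
  -- the contributions
  have h0 : ∑ x ∈ F0, (inverters x).card = ∑ x ∈ Finset.univ.filter (fun x : G => RealFpf Ω x),
      Nat.card (Subgroup.centralizer ({x} : Set G)) := by
    rw [← Finset.sum_subset (s₁ := Finset.univ.filter fun x : G => RealFpf Ω x) (s₂ := F0)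
      (fun x hx => Finset.mem_filter.2 ⟨Finset.mem_univ _, (hfix0 x).2 (Finset.mem_filter.1 hx).2.1⟩)
      (fun x hx hx' => ?_)]
    · refine Finset.sum_congr rfl fun x hx => ?_
      obtain ⟨hxf, t, ht, htx⟩ := (Finset.mem_filter.1 hx).2
      exact h.card_inverters hxf ht htx
    · rw [Finset.card_eq_zero, inverters, Finset.filter_eq_empty_iff]
      intro s _ hs
      exact hx' (Finset.mem_filter.2 ⟨Finset.mem_univ _, (hfix0 x).1 (Finset.mem_filter.1 hx).2,
        s, hs.1, (inv_mul_inv hs.1.1).1 hs.2.1⟩)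
  have hinvert : ∀ x s : G, s ∈ inverters x → ∀ c : Ω, x • c = c → x • s • c = s • c := by
    intro x s hs c hc
    obtain ⟨⟨hs, -⟩, hsx, -⟩ := (Finset.mem_filter.1 hs).2
    have e := (inv_mul_inv hs).1 hsx
    have e' : x⁻¹ • s • c = s • c := by rw [← e, ← mul_smul, inv_mul_cancel_right, mul_smul, hc]
    conv_lhs => rw [← e', smul_inv_smul]
  have h1 : ∑ x ∈ F1, (inverters x).card = I.card * (d - 1) := by
    have hI1 : I ⊆ F1 := fun x hx => by
      have hx' := (Finset.mem_filter.1 hx).2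
      refine Finset.mem_filter.2 ⟨Finset.mem_univ _, hx'.2, ?_⟩
      obtain ⟨c, hc, -⟩ := h.centralizer_fix hx' (rfl : x * x = x * x)
      show Nat.card (fixedBy Ω x) = 1
      exact Nat.card_eq_one_iff_unique.2
        ⟨⟨fun p r => Subtype.ext (h.fixedBy_invol hx' p.2 r.2)⟩, ⟨⟨c, hc⟩⟩⟩
    rw [← Finset.sum_subset hI1 fun x hx hx' => ?_, Finset.sum_congr rfl (g := fun _ => d - 1)
      fun x hx => ?_, Finset.sum_const, smul_eq_mul]
    · -- inverters of an involution
      have hx' := (Finset.mem_filter.1 hx).2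
      obtain ⟨g, hg, hg1⟩ := h.exists_conj_zSub hx'
      set z := g * x * g⁻¹ with hz
      have hgc : ∀ s : G, s ∈ inverters x ↔
          g * s * g⁻¹ ∈ ((Finset.univ.filter fun w : G => w ∈ zSub U).erase 1).erase z := by
        intro s
        simp only [inverters, Finset.mem_filter, Finset.mem_univ, true_and, Finset.mem_erase]
        constructor
        · rintro ⟨⟨hs, hs1⟩, hsx, hsx1⟩
          have e := (inv_mul_inv hs).1 hsx
          rw [inv_eq_of_mul_eq_one_right hx'.1, mul_inv_eq_iff_eq_mul] at e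
          refine ⟨fun e1 => hsx1 ?_, fun e1 => hs1 ?_, ?_⟩
          · rw [mul_left_cancel (mul_right_cancel e1)]; exact hx'.1
          · rwa [mul_inv_eq_one, mul_eq_left] at e1
          · refine h.mem_zSub.2 ⟨h.centralizer_conj hg hg1 e, ?_⟩
            rw [show g * s * g⁻¹ * (g * s * g⁻¹) = g * (s * s) * g⁻¹ by group, hs, mul_one,
              mul_inv_cancel]
        · rintro ⟨hne, hne1, hm⟩
          obtain ⟨hmU, hm2⟩ := h.mem_zSub.1 hm
          have hs : s * s = 1 := by
            rwa [show g * s * g⁻¹ * (g * s * g⁻¹) = g * (s * s) * g⁻¹ by group, mul_inv_eq_one,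
              mul_eq_left] at hm2
          have hcs : s * x = x * s := by
            have e := h.z_comm hg hmU
            rw [hz, show g * s * g⁻¹ * (g * x * g⁻¹) = g * (s * x) * g⁻¹ by group,
              show g * x * g⁻¹ * (g * s * g⁻¹) = g * (x * s) * g⁻¹ by group] at e
            exact mul_left_cancel (mul_right_cancel e)
          refine ⟨⟨hs, fun e => hne1 (by rw [e, mul_one, mul_inv_cancel])⟩, ?_, fun e => hne ?_⟩
          · calc s * x * (s * x) = s * (x * s) * x := by group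
              _ = (s * s) * (x * x) := by rw [← hcs]; group
              _ = 1 := by rw [hs, hx'.1, mul_one]
          · rw [hz, show x = s from (inv_eq_of_mul_eq_one_right e).symm.trans
              (inv_eq_of_mul_eq_one_right hs)]
      have e : ((Finset.univ.filter fun w : G => w ∈ zSub U).erase 1).erase z =
          (inverters x).map (MulAut.conj g).toEquiv.toEmbedding := by
        ext w
        rw [Finset.mem_map_equiv, hgc]
        simp [mul_assoc]
      have ec := congrArg Finset.card e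
      rw [Finset.card_map, Finset.card_erase_of_mem (Finset.mem_erase.2 ⟨hg1,
        Finset.mem_filter.2 ⟨Finset.mem_univ _, hg⟩⟩), Finset.card_erase_of_mem
        (Finset.mem_filter.2 ⟨Finset.mem_univ _, one_mem _⟩),
        show (Finset.univ.filter fun w : G => w ∈ zSub U).card = q by
          rw [← Fintype.card_subtype, ← Nat.card_eq_fintype_card]; exact h.card_zSub] at ec
      omega
    · -- no involution inverts an element of order four
      rw [Finset.card_eq_zero, Finset.eq_empty_iff_forall_notMem]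
      intro s hs
      obtain ⟨⟨hs2, hs1⟩, hsx, -⟩ := (Finset.mem_filter.1 hs).2
      obtain ⟨hx1, hxπ⟩ := (Finset.mem_filter.1 hx).2
      obtain ⟨hsub, ⟨c, hc⟩⟩ := Nat.card_eq_one_iff_unique.1 (show Nat.card (fixedBy Ω x) = 1 from hxπ)
      have hsc : s • c = c := congrArg Subtype.val
        (hsub.elim (⟨_, hinvert x s hs c hc⟩ : fixedBy Ω x) ⟨c, hc⟩)
      obtain ⟨g, hgc⟩ := MulAction.exists_smul_eq G c a
      have hmap : ∀ w : G, w • c = c → (g * w * g⁻¹) • a = a := fun w hw => by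
        rw [mul_smul, mul_smul, ← hgc, inv_smul_smul, hw]
      have hne1 : ∀ w : G, w ≠ 1 → g * w * g⁻¹ ≠ 1 := fun w hw e => hw (by
        rw [mul_inv_eq_one, mul_eq_left] at e; exact e)
      have hsq : g * s * g⁻¹ * (g * s * g⁻¹) = 1 := by
        rw [show g * s * g⁻¹ * (g * s * g⁻¹) = g * (s * s) * g⁻¹ by group, hs2, mul_one,
          mul_inv_cancel]
      have hsU : g * s * g⁻¹ ∈ U := h.invU _ hsq (hne1 s hs1) (hmap s hsc)
      have hxU : g * x * g⁻¹ ∈ U := by
        by_contra hxU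
        obtain ⟨c', hc'a, hc'⟩ := RegKernel.exists_fixed h.hZG h.hab h.hU (hmap x hc) hxU
        refine hc'a ?_
        have e1 : x • g⁻¹ • c' = g⁻¹ • c' := by
          rw [← smul_left_cancel_iff g, smul_inv_smul, ← mul_smul, ← mul_smul]; exact hc'
        have e2 : g⁻¹ • c' = c := congrArg Subtype.val
          (hsub.elim (⟨_, e1⟩ : fixedBy Ω x) ⟨c, hc⟩)
        rw [← hgc, ← e2, smul_inv_smul]
      have hcs : x * s = s * x := by
        have e := h.cen _ hsU hsq _ hxU
        rw [show g * x * g⁻¹ * (g * s * g⁻¹) = g * (x * s) * g⁻¹ by group,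
          show g * s * g⁻¹ * (g * x * g⁻¹) = g * (s * x) * g⁻¹ by group] at e
        exact mul_left_cancel (mul_right_cancel e)
      refine hx' (Finset.mem_filter.2 ⟨Finset.mem_univ _, ?_, hx1⟩)
      calc x * x = s * s * (x * x) := by rw [hs2, one_mul]
        _ = s * (x * s) * x := by rw [hcs]; group
        _ = 1 := by rw [← hsx]; group
  have h2 : ∀ x ∈ F2, (inverters x).card = d := by
    intro x hx
    obtain ⟨hx1, hxπ⟩ := (Finset.mem_filter.1 hx).2
    obtain ⟨⟨p, hp⟩, ⟨r, hr⟩, hpr, huniv⟩ :=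
      Nat.card_eq_two_iff.1 (show Nat.card (fixedBy Ω x) = 2 from hxπ)
    have hpr' : p ≠ r := fun e => hpr (Subtype.ext e)
    obtain ⟨t, ht, htp, htr⟩ := exists_swap h.hZG hpr'
    obtain ⟨c₀, hc₀, hc₀u⟩ := existsUnique_fixed_of_odd h.hZG h.odd ht
    have ht2 : t * t = 1 := by rw [← pow_two, ← ht, pow_orderOf_eq_one]
    have hinv : ∀ δ ∈ stabilizer G p ⊓ stabilizer G r, t * δ * t⁻¹ = δ⁻¹ := fun δ hδ =>
      swap_inverts h.hZG hpr' ht htp htr hc₀ hc₀u hδ
    have hxD : x ∈ stabilizer G p ⊓ stabilizer G r := mem_pair_stabilizer.2 ⟨hp, hr⟩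
    have hno : ∀ s : G, s ∈ stabilizer G p ⊓ stabilizer G r → s * s = 1 → s = 1 := by
      intro s hs hs2
      have hodd : Odd (Nat.card ↥(stabilizer G p ⊓ stabilizer G r)) := by
        rw [card_pair_eq h.hZG h.hab hpr']; exact h.odd_card_pair'
      obtain ⟨m, hm⟩ := hodd
      have e := congrArg Subtype.val
        (pow_card_eq_one' (x := (⟨s, hs⟩ : ↥(stabilizer G p ⊓ stabilizer G r))))
      rw [hm] at e
      have e2 : s ^ (2 * m + 1) = 1 := by simpa using e
      rwa [pow_succ, pow_mul, pow_two, hs2, one_pow, one_mul] at e2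
    rw [← card_pair_eq h.hZG h.hab hpr' (p := p) (q := r) |>.trans hd'.symm,
      ← Fintype.card_coe, ← Nat.card_eq_fintype_card]
    refine Nat.card_congr ((Equiv.mulLeft t⁻¹).subtypeEquiv fun s => ?_)
    show s ∈ inverters x ↔ t⁻¹ * s ∈ stabilizer G p ⊓ stabilizer G r
    constructor
    · intro hs
      obtain ⟨⟨hs2, hs1⟩, hsx, -⟩ := (Finset.mem_filter.1 hs).2
      have hfix : ∀ c, x • c = c → c = p ∨ c = r := fun c hc => by
        have := huniv ▸ Set.mem_univ (⟨c, hc⟩ : fixedBy Ω x)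
        rcases this with e | e
        · exact Or.inl (congrArg Subtype.val e)
        · exact Or.inr (congrArg Subtype.val e)
      have hsp : s • p = r := by
        refine (hfix _ (hinvert x s hs p hp)).resolve_left fun e => ?_
        have hsr : s • r = r := (hfix _ (hinvert x s hs r hr)).resolve_left fun e' =>
          hpr' (MulAction.injective s (e.trans e'.symm))
        exact hs1 (hno s (mem_pair_stabilizer.2 ⟨e, hsr⟩) hs2)
      have hsr : s • r = p := by rw [← hsp, ← mul_smul, hs2, one_smul]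
      exact mem_pair_stabilizer.2 ⟨by rw [mul_smul, hsp, inv_smul_eq_iff, htp],
        by rw [mul_smul, hsr, inv_smul_eq_iff, htr]⟩
    · intro hy
      set y := t⁻¹ * s with hy'
      have hsy : s = t * y := by rw [hy']; group
      have hss : s * s = 1 := by
        calc s * s = t * y * t⁻¹ * (t * t) * y := by rw [hsy]; group
          _ = 1 := by rw [hinv y hy, ht2, mul_one, inv_mul_cancel]
      have hsp : s • p = r := by rw [hsy, mul_smul, (mem_pair_stabilizer.1 hy).1, htp]
      have hcomm : y * x = x * y := by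
        have e := hinv _ (mul_mem hy hxD)
        rw [show t * (y * x) * t⁻¹ = (t * y * t⁻¹) * (t * x * t⁻¹) by group, hinv y hy, hinv x hxD,
          ← mul_inv_rev] at e
        exact (inv_injective e).symm
      refine Finset.mem_filter.2 ⟨Finset.mem_univ _, ⟨hss, fun e => hpr' ?_⟩,
        (inv_mul_inv hss).2 ?_, fun e => hpr' ?_⟩
      · rw [← hsp, e, one_smul]
      · calc s * x * s⁻¹ = t * (y * x * y⁻¹) * t⁻¹ := by rw [hsy]; group
          _ = x⁻¹ := by rw [hcomm, mul_inv_cancel_right, hinv x hxD]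
      · rw [← hsp, show s = x from (inv_eq_of_mul_eq_one_right hss).symm.trans
          (inv_eq_of_mul_eq_one_right e)]
        exact hp.symm
  have htot := hsplit fun x => (inverters x).card
  rw [hpairs, h0, h1, Finset.sum_congr rfl h2, Finset.sum_const, smul_eq_mul,
    show (inverters (1 : G)).card = I.card by
      congr 1; ext s; simp [inverters, hI]] at htot
  clear_value d
  obtain ⟨d', rfl⟩ : ∃ d', d = d' + 1 := ⟨d - 1, by omega⟩
  rw [Nat.add_sub_cancel] at htot
  rw [hnq, show q ^ 2 + 1 - 1 = q ^ 2 by omega, show q ^ 2 + 1 - 2 = q ^ 2 - 1 by omega] at hfpf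
  have h1q : 1 ≤ q ^ 2 := Nat.one_le_pow _ _ (by omega)
  rw [hIc] at htot
  zify [h1q] at hfpf htot hone hπs hG hnq ⊢
  rw [← hdq] at hnq hfpf hG ⊢
  push_cast at hnq hfpf hG ⊢
  simp only [hnq] at hG htot hπs hone hfpf
  rw [hG] at hone hπs hfpf ⊢
  linear_combination -(2 : ℤ) * htot + 2 * ((d' : ℤ) + 1) * (hπs - hone) - ((d' : ℤ) + 1) * hfpf

omit hx ht htx in
/-- `q` is an odd power of two. -/
theorem exists_odd_pow (hcard : Nat.card U = q ^ 2) : ∃ k, Odd k ∧ 1 < k ∧ q = 2 ^ k := by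
  have := Fintype.ofFinite Ω
  set R := Finset.univ.filter fun x : G => RealFpf Ω x with hR
  let cen : G → ℕ := fun x => Nat.card (Subgroup.centralizer ({x} : Set G))
  have hcount : 2 * ∑ x ∈ R, cen x = Nat.card G * q := h.real_count hcard
  have hq4 := h.four_le
  have hGpos : 0 < Nat.card G := Nat.card_pos
  set n := Nat.card Ω with hn
  have hnq : n = q ^ 2 + 1 := by rw [hn, ← RegKernel.card_add_one h.hab h.hU, hcard]
  set d := Nat.card ↥(stabilizer G a ⊓ stabilizer G b) with hd'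
  have hdq : d + 1 = q := h.hd
  have hG : Nat.card G = n * (q ^ 2 * d) := by
    rw [RegKernel.card_group h.hZG h.hab h.hU, hcard]
  -- fewer than half of the elements are real
  have hRlt : 2 * R.card < Nat.card G := by
    have e := two_mul_card_fpf h.hZG
    have hle : R.card ≤ Nat.card {g : G // ∀ c : Ω, g • c ≠ c} := by
      rw [Nat.card_eq_fintype_card, Fintype.card_subtype]
      exact Finset.card_le_card fun x hx =>
        Finset.mem_filter.2 ⟨Finset.mem_univ _, (Finset.mem_filter.1 hx).2.1⟩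
    have : 0 < (n - 1) * (n - 2) := by
      have : 4 ≤ q ^ 2 := by nlinarith
      exact Nat.mul_pos (by omega) (by omega)
    rw [← hn] at e
    omega
  have hcov : ∀ x ∈ R, cover (Subgroup.centralizer ({x} : Set G)) ⊆ R := fun x hx y hy =>
    Finset.mem_filter.2
      ⟨Finset.mem_univ _, ((h.torus hcard (Finset.mem_filter.1 hx).2).2.2.1 y hy).1⟩
  have hself : ∀ x ∈ R, x ∈ cover (Subgroup.centralizer ({x} : Set G)) := fun x hx =>
    Finset.mem_filter.2 ⟨Finset.mem_univ _,
      fun e => (Finset.mem_filter.1 hx).2.1 a (by rw [e, one_smul]), 1,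
      Subgroup.mem_centralizer_singleton_iff.2 (by simp)⟩
  have hdisj : ∀ x ∈ R, ∀ y ∈ R, y ∉ cover (Subgroup.centralizer ({x} : Set G)) →
      Disjoint (cover (Subgroup.centralizer ({x} : Set G)))
        (cover (Subgroup.centralizer ({y} : Set G))) := by
    intro x hx y hy hne
    refine Finset.disjoint_left.2 fun z hz hz' => hne ?_
    obtain ⟨-, hz1, g, hg⟩ := Finset.mem_filter.1 hz
    obtain ⟨-, -, g', hg'⟩ := Finset.mem_filter.1 hz'
    have hne1 : ∀ r : G, r⁻¹ * z * r ≠ 1 := fun r e => hz1 (by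
      rw [show z = r * (r⁻¹ * z * r) * r⁻¹ by group, e, mul_one, mul_inv_cancel])
    have e1 := (h.real_centralizer (Finset.mem_filter.1 hx).2 hg (hne1 g)).2
    have e2 := (h.real_centralizer (Finset.mem_filter.1 hy).2 hg' (hne1 g')).2
    have hy' : y ∈ Subgroup.centralizer ({g'⁻¹ * z * g'} : Set G) := by
      rw [e2]; exact Subgroup.mem_centralizer_singleton_iff.2 rfl
    rw [Subgroup.mem_centralizer_singleton_iff] at hy'
    refine Finset.mem_filter.2 ⟨Finset.mem_univ _,
      fun e => (Finset.mem_filter.1 hy).2.1 a (by rw [e, one_smul]), g'⁻¹ * g, ?_⟩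
    rw [← e1, Subgroup.mem_centralizer_singleton_iff]
    calc (g'⁻¹ * g)⁻¹ * y * (g'⁻¹ * g) * (g⁻¹ * z * g)
        = g⁻¹ * g' * (y * (g'⁻¹ * z * g')) * g'⁻¹ * g := by group
      _ = g⁻¹ * g' * ((g'⁻¹ * z * g') * y) * g'⁻¹ * g := by rw [hy']
      _ = _ := by group
  have hbound : ∀ x ∈ R, ∃ i w : ℕ, (w = 2 ∨ w = 4) ∧ w ∣ cen x - 1 ∧
      cen x * w * i = Nat.card G ∧ cen x ∣ i - 1 ∧
      w * ∑ y ∈ cover (Subgroup.centralizer ({x} : Set G)), cen y = Nat.card G * (cen x - 1) ∧
      4 * Nat.card G ≤ 5 * (w * (cover (Subgroup.centralizer ({x} : Set G))).card) := by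
    intro x hx
    obtain ⟨-, h5, hy, i, w, hw, hwd, hwi, hdvd, hc⟩ := h.torus hcard (Finset.mem_filter.1 hx).2
    refine ⟨i, w, hw, hwd, hwi, hdvd, ?_, ?_⟩
    · rw [Finset.sum_congr rfl fun y hy' => (hy y hy').2, Finset.sum_const, smul_eq_mul, hc, ← hwi]
      ring
    · rw [← hwi, hc]
      obtain ⟨r, hr⟩ : ∃ r, Nat.card (Subgroup.centralizer ({x} : Set G)) = r + 5 :=
        ⟨Nat.card (Subgroup.centralizer ({x} : Set G)) - 5, by omega⟩
      rw [hr]
      rw [show r + 5 - 1 = r + 4 by omega]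
      nlinarith [Nat.zero_le (r * w * i)]
  have hdvdn : ∀ x ∈ R, cen x ∣ q ^ 2 + 1 := fun x hx =>
    hnq ▸ (h.torus hcard (Finset.mem_filter.1 hx).2).1
  have h5' : ∀ x ∈ R, 5 ≤ cen x := fun x hx =>
    (h.torus hcard (Finset.mem_filter.1 hx).2).2.1
  -- the first torus
  obtain ⟨x₁, hx₁⟩ : R.Nonempty := by
    by_contra hne
    rw [Finset.not_nonempty_iff_eq_empty] at hne
    rw [hne, Finset.sum_empty, mul_zero] at hcount
    exact (Nat.mul_pos hGpos (show 0 < q by omega)).ne' hcount.symm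
  obtain ⟨i₁, w₁, hw₁, hwd₁, hwi₁, hdvd₁, hs₁, hb₁⟩ := hbound x₁ hx₁
  set C₁ := cover (Subgroup.centralizer ({x₁} : Set G)) with hC₁
  have hne : ∃ x₂ ∈ R, x₂ ∉ C₁ := by
    by_contra! hall
    have e : C₁ = R := Finset.Subset.antisymm (hcov x₁ hx₁) hall
    rw [e] at hs₁
    have e1 : w₁ * q = 2 * (cen x₁ - 1) := by
      refine Nat.eq_of_mul_eq_mul_left hGpos ?_
      calc Nat.card G * (w₁ * q) = w₁ * (Nat.card G * q) := by ring
        _ = 2 * (w₁ * ∑ x ∈ R, cen x) := by rw [← hcount]; ring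
        _ = _ := by rw [hs₁]; ring
    have hd := Int.natCast_dvd_natCast.2 (hdvdn x₁ hx₁)
    have := h5' x₁ hx₁
    push_cast at hd
    rcases hw₁ with rfl | rfl
    · have hc : (cen x₁ : ℤ) = q + 1 := by omega
      rw [hc] at hd
      have h2 : (q : ℤ) + 1 ∣ 2 := by
        have e : (2 : ℤ) = ((q : ℤ) ^ 2 + 1) - ((q : ℤ) + 1) * ((q : ℤ) - 1) := by ring
        rw [e]; exact dvd_sub hd (dvd_mul_right _ _)
      have := Int.le_of_dvd (by norm_num) h2
      omega
    · have hc : (cen x₁ : ℤ) = 2 * q + 1 := by omega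
      rw [hc] at hd
      have h2 : 2 * (q : ℤ) + 1 ∣ 5 := by
        have e : (5 : ℤ) = 4 * ((q : ℤ) ^ 2 + 1) - (2 * (q : ℤ) + 1) * (2 * (q : ℤ) - 1) := by ring
        rw [e]; exact dvd_sub (hd.mul_left 4) (dvd_mul_right _ _)
      have := Int.le_of_dvd (by norm_num) h2
      omega
  obtain ⟨x₂, hx₂, hx₂'⟩ := hne
  obtain ⟨i₂, w₂, hw₂, hwd₂, hwi₂, hdvd₂, hs₂, hb₂⟩ := hbound x₂ hx₂
  set C₂ := cover (Subgroup.centralizer ({x₂} : Set G)) with hC₂
  have hd12 : Disjoint C₁ C₂ := hdisj x₁ hx₁ x₂ hx₂ hx₂'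
  have hle12 := Finset.card_le_card (Finset.union_subset (hcov x₁ hx₁) (hcov x₂ hx₂))
  rw [Finset.card_union_of_disjoint hd12] at hle12
  change C₁.card + C₂.card ≤ R.card at hle12
  obtain rfl : w₁ = 4 := by
    rcases hw₁ with rfl | rfl
    · rcases hw₂ with rfl | rfl <;> omega
    · rfl
  obtain rfl : w₂ = 4 := by
    rcases hw₂ with rfl | rfl
    · omega
    · rfl
  have hall : ∀ x ∈ R, x ∈ C₁ ∪ C₂ := by
    intro x₃ hx₃
    by_contra hx₃'
    rw [Finset.mem_union, not_or] at hx₃'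
    obtain ⟨i₃, w₃, hw₃, -, -, -, -, hb₃⟩ := hbound x₃ hx₃
    have hd13 := hdisj x₁ hx₁ x₃ hx₃ hx₃'.1
    have hd23 := hdisj x₂ hx₂ x₃ hx₃ hx₃'.2
    have hle := Finset.card_le_card (Finset.union_subset
      (Finset.union_subset (hcov x₁ hx₁) (hcov x₂ hx₂)) (hcov x₃ hx₃))
    rw [Finset.card_union_of_disjoint (Finset.disjoint_union_left.2 ⟨hd13, hd23⟩),
      Finset.card_union_of_disjoint hd12] at hle
    change C₁.card + C₂.card + _ ≤ R.card at hle
    rcases hw₃ with rfl | rfl <;> omega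
  have hReq : C₁ ∪ C₂ = R :=
    Finset.Subset.antisymm (Finset.union_subset (hcov x₁ hx₁) (hcov x₂ hx₂)) hall
  rw [← hReq, Finset.sum_union hd12] at hcount
  have e2 : 2 * q = (cen x₁ - 1) + (cen x₂ - 1) := by
    refine Nat.eq_of_mul_eq_mul_left hGpos ?_
    calc Nat.card G * (2 * q) = 2 * (Nat.card G * q) := by ring
      _ = 4 * ∑ x ∈ C₁, cen x + 4 * ∑ x ∈ C₂, cen x := by rw [← hcount]; ring
      _ = _ := by rw [hs₁, hs₂]; ring
  have hcop := h.tori_coprime (Finset.mem_filter.1 hx₁).2 (Finset.mem_filter.1 hx₂).2 hx₂'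
  obtain ⟨R', hR'⟩ := Nat.Coprime.mul_dvd_of_dvd_of_dvd hcop (hdvdn x₁ hx₁) (hdvdn x₂ hx₂)
  have h51 := h5' x₁ hx₁
  have h52 := h5' x₂ hx₂
  set A₁ := cen x₁ with hA₁
  set A₂ := cen x₂ with hA₂
  change q ^ 2 + 1 = A₁ * A₂ * R' at hR'
  -- the congruences
  have hR0 : 0 < R' := by
    rcases Nat.eq_zero_or_pos R' with e | e
    · rw [e, mul_zero] at hR'; omega
    · exact e
  have key : ∀ A B i : ℕ, 5 ≤ A → q ^ 2 + 1 = A * B * R' → 2 * q + 2 = A + B →
      A * 4 * i = Nat.card G → A ∣ i - 1 → ¬ 2 ∣ A → A ∣ R' - 1 := by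
    intro A B i hA5 hq2 hsum hi hdvd hAodd
    have hi1 : 1 ≤ i := by
      rcases Nat.eq_zero_or_pos i with e | e
      · rw [e, mul_zero] at hi; omega
      · exact e
    have e3 : (4 * i : ℤ) = B * R' * ((q : ℤ) ^ 2 * ((q : ℤ) - 1)) := by
      refine mul_left_cancel₀ (show (A : ℤ) ≠ 0 by omega) ?_
      have e := congrArg (Nat.cast : ℕ → ℤ) (hi.trans (hG.trans (by rw [hnq, hq2])))
      push_cast at e
      rw [show (d : ℤ) = (q : ℤ) - 1 by omega] at e
      linear_combination e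
    have hd1 : (A : ℤ) ∣ (i : ℤ) - 1 := by
      have e := Int.natCast_dvd_natCast.2 hdvd
      rwa [Nat.cast_sub hi1, Nat.cast_one] at e
    have hq2' : (q : ℤ) ^ 2 + 1 = A * B * R' := by exact_mod_cast hq2
    have hsum' : 2 * (q : ℤ) + 2 = A + B := by exact_mod_cast hsum
    have hd2 : (A : ℤ) ∣ 4 * ((R' : ℤ) - 1) := by
      have e : 4 * ((R' : ℤ) - 1) = 4 * ((i : ℤ) - 1) +
          (A : ℤ) * (R' * ((q : ℤ) ^ 2 * ((q : ℤ) - 1)) - B * R' * (2 * R' * ((q : ℤ) ^ 2 - 2))) := by
        linear_combination (-1 : ℤ) * e3 +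
          (R' : ℤ) * (q : ℤ) ^ 2 * ((q : ℤ) - 1) * hsum' - 2 * (R' : ℤ) * ((q : ℤ) ^ 2 - 2) * hq2'
      rw [e]
      exact dvd_add (hd1.mul_left 4) (dvd_mul_right _ _)
    have hd3 : A ∣ 4 * (R' - 1) := Int.natCast_dvd_natCast.1 (by
      push_cast [Nat.cast_sub (show 1 ≤ R' by omega)]; exact hd2)
    refine (Nat.Coprime.dvd_of_dvd_mul_left ?_ hd3)
    exact Nat.Coprime.pow_right 2 ((Nat.prime_two.coprime_iff_not_dvd.2 hAodd).symm)
  have hR1 : R' = 1 := by
    have hodd1 : ¬ 2 ∣ A₁ := by omega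
    have hodd2 : ¬ 2 ∣ A₂ := by omega
    have k1 := key A₁ A₂ i₁ h51 hR' (by omega) hwi₁ hdvd₁ hodd1
    have k2 := key A₂ A₁ i₂ h52 (by rw [hR']; ring) (by omega) hwi₂ hdvd₂ hodd2
    by_contra hne
    have l1 := Nat.le_of_dvd (by omega) k1
    have l2 := Nat.le_of_dvd (by omega) k2
    have hR2 : q + 2 ≤ R' := by omega
    have hp : q + 1 ≤ A₁ * A₂ := by
      have e1 := Nat.mul_le_mul_left A₁ h52
      have e2 := Nat.mul_le_mul_right A₂ h51
      omega
    nlinarith [Nat.mul_le_mul hp hR2]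
  rw [hR1, mul_one] at hR'
  obtain ⟨k, hk2, hqk⟩ := h.hq
  refine ⟨k, ?_, by omega, hqk⟩
  obtain ⟨m, hm⟩ : ∃ m : ℕ, m ^ 2 = 2 ^ (k + 3) := by
    refine ⟨((A₁ : ℤ) - A₂).natAbs, ?_⟩
    apply Int.natCast_inj.1
    have e1 : (A₁ : ℤ) + A₂ = 2 * q + 2 := by omega
    have e2' : (A₁ : ℤ) * A₂ = (q : ℤ) ^ 2 + 1 := by exact_mod_cast hR'.symm
    have e3 : ((2 ^ (k + 3) : ℕ) : ℤ) = 8 * q := by rw [hqk]; push_cast; ring
    rw [e3, Nat.cast_pow, Int.natAbs_sq]
    linear_combination ((A₁ : ℤ) + A₂ + 2 * q + 2) * e1 - 4 * e2'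
  obtain ⟨i, -, rfl⟩ :=
    (Nat.dvd_prime_pow Nat.prime_two).1 (hm ▸ dvd_pow_self m two_ne_zero)
  rw [← pow_mul] at hm
  have := Nat.pow_right_injective le_rfl hm
  exact ⟨i - 2, by omega⟩

end Suz

end Cfsg.Agent.Lib.SuzukiKernel
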